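import Mathlib.GroupTheory.Sylow
import Mathlib.GroupTheory.Nilpotent
import Mathlib.Data.Set.Card
import Mathlib.Tactic

/-!
The Baer–Suzuki theorem, by the argument of Alperin and Lyons.
-/

set_option autoImplicit false

namespace Cfsg.Lib.BaerSuzuki

open scoped Pointwise

variable {G : Type*} [Group G] [Finite G] {p : ℕ} [Fact p.Prime]

/-- The conjugates of `X` inside `P`. -/
def classIn (X P : Subgroup G) : Set (Subgroup G) :=
  {Y | (∃ g : G, Y = X.map (MulAut.conj g).toMonoidHom) ∧ Y ≤ P}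

omit [Finite G] in
theorem map_conj_conj (X : Subgroup G) (g h : G) :
    (X.map (MulAut.conj h).toMonoidHom).map (MulAut.conj g).toMonoidHom =
      X.map (MulAut.conj (g * h)).toMonoidHom := by
  rw [Subgroup.map_map, map_mul]
  rfl

omit [Finite G] in
theorem le_normalizer_of_mem {Y R : Subgroup G} (h : ∀ y ∈ Y, ∀ r ∈ R, y * r * y⁻¹ ∈ R) :
    Y ≤ Subgroup.normalizer (R : Set G) := fun y hy => Subgroup.mem_normalizer_iff.mpr fun r =>
  ⟨h y hy r, fun hr => by simpa [mul_assoc] using h y⁻¹ (Y.inv_mem hy) _ hr⟩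

/-- A family of conjugates of `X` in `P` that is not everything is normalized by one more. -/
theorem exists_normalizing {X : Subgroup G} {P : Sylow p G} {D : Set (Subgroup G)}
    (hD : D ⊂ classIn X P) :
    ∃ Y ∈ classIn X P, Y ∉ D ∧ Y ≤ Subgroup.normalizer ((sSup D : Subgroup G) : Set G) := by
  set R := sSup D
  have hR : R ≤ P := sSup_le fun Y hY => (hD.subset hY).2
  by_cases hN : (P : Subgroup G) ≤ Subgroup.normalizer (R : Set G)
  · obtain ⟨Y, hY, hYD⟩ := Set.exists_of_ssubset hD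
    exact ⟨Y, hY, hYD, hY.2.trans hN⟩
  -- move `R` by an element normalizing its normalizer
  set R₀ := (P : Subgroup G) ⊓ Subgroup.normalizer (R : Set G)
  have hlt : R₀.subgroupOf P < ⊤ := by
    rw [lt_top_iff_ne_top, ne_eq, Subgroup.subgroupOf_eq_top]
    exact fun h => hN (h.trans inf_le_right)
  haveI : Group.IsNilpotent (P : Subgroup G) := IsPGroup.isNilpotent P.2
  obtain ⟨g, hg, hg'⟩ := SetLike.exists_of_lt (Group.normalizerCondition_of_isNilpotent _ hlt)
  have hgn : ∀ x ∈ R₀, (g : G) * x * (g : G)⁻¹ ∈ R₀ := fun x hx =>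
    (Subgroup.mem_normalizer_iff.mp hg ⟨x, hx.1⟩).mp hx
  have hRR : R ≤ R₀ := le_inf hR Subgroup.le_normalizer
  by_contra hne
  push Not at hne
  refine hg' ?_
  have hmove : ∀ Y ∈ D, Y.map (MulAut.conj (g : G)).toMonoidHom ∈ D := by
    intro Y hY
    by_contra hYg
    obtain ⟨⟨k, rfl⟩, hYP⟩ := hD.subset hY
    have hle : (X.map (MulAut.conj k).toMonoidHom).map (MulAut.conj (g : G)).toMonoidHom ≤ R₀ := by
      rintro _ ⟨y, hy, rfl⟩
      exact hgn y (hRR (le_sSup hY hy))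
    exact hne _ ⟨⟨g * k, map_conj_conj X g k⟩, hle.trans inf_le_left⟩ hYg (hle.trans inf_le_right)
  have e : R.map (MulAut.conj (g : G)).toMonoidHom = R := by
    refine Subgroup.eq_of_le_of_card_ge ?_ (Subgroup.card_map_of_injective (MulAut.conj (g : G)).injective).ge
    rw [Subgroup.map_le_iff_le_comap]
    exact sSup_le fun Y hY => Subgroup.map_le_iff_le_comap.mp (le_sSup (hmove Y hY))
  refine ⟨g.2, Subgroup.mem_normalizer_iff.mpr fun x => ⟨fun hx => e.le ⟨x, hx, rfl⟩, fun hx => ?_⟩⟩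
  rw [← e] at hx
  obtain ⟨w, hw, ew⟩ := hx
  exact (MulAut.conj (g : G)).injective ew ▸ hw

theorem ncard_classIn (X : Subgroup G) (P Q : Sylow p G) :
    (classIn X Q).ncard = (classIn X P).ncard := by
  obtain ⟨g, rfl⟩ := MulAction.exists_smul_eq G P Q
  have hf : Function.Injective (Subgroup.map (MulAut.conj g).toMonoidHom) :=
    Subgroup.map_injective (MulAut.conj g).injective
  rw [← Set.ncard_image_of_injective (classIn X P) hf]
  congr 1
  ext Y
  rw [Sylow.coe_subgroup_smul]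
  constructor
  · rintro ⟨⟨k, rfl⟩, hY⟩
    refine ⟨X.map (MulAut.conj (g⁻¹ * k)).toMonoidHom, ⟨⟨_, rfl⟩, ?_⟩, ?_⟩
    · rw [← map_conj_conj, Subgroup.map_le_iff_le_comap]
      intro x hx
      obtain ⟨w, hw, e⟩ := hY hx
      show MulAut.conj g⁻¹ x ∈ (P : Subgroup G)
      have e' : g * w * g⁻¹ = x := e
      show g⁻¹ * x * g⁻¹⁻¹ ∈ (P : Subgroup G)
      rw [← e', show g⁻¹ * (g * w * g⁻¹) * g⁻¹⁻¹ = w by group]
      exact hw
    · rw [map_conj_conj, mul_inv_cancel_left]
  · rintro ⟨Z, ⟨⟨k, rfl⟩, hZ⟩, rfl⟩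
    exact ⟨⟨g * k, map_conj_conj X g k⟩, Subgroup.map_mono hZ⟩

/-- **Baer–Suzuki**. -/
theorem baer_suzuki (X : Subgroup G)
    (h : ∀ g : G, IsPGroup p ↥(X ⊔ X.map (MulAut.conj g).toMonoidHom)) :
    ∃ N : Subgroup G, N.Normal ∧ IsPGroup p N ∧ X ≤ N := by
  classical
  -- two conjugates generate a `p`-group
  have hpair : ∀ a b : G, IsPGroup p
      ↥(X.map (MulAut.conj a).toMonoidHom ⊔ X.map (MulAut.conj b).toMonoidHom) := by
    intro a b
    have e : X.map (MulAut.conj a).toMonoidHom ⊔ X.map (MulAut.conj b).toMonoidHom =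
        (X ⊔ X.map (MulAut.conj (a⁻¹ * b)).toMonoidHom).map (MulAut.conj a).toMonoidHom := by
      rw [Subgroup.map_sup, map_conj_conj, mul_inv_cancel_left]
    rw [e]
    exact (h _).map _
  have hall : ∀ P Q : Sylow p G, classIn X P = classIn X Q := by
    by_contra hne
    push Not at hne
    obtain ⟨P₀, Q₀, hPQ₀⟩ := hne
    obtain ⟨⟨P, Q⟩, hPQ, hmax⟩ := Set.exists_max_image
      {a : Sylow p G × Sylow p G | classIn X a.1 ≠ classIn X a.2}
      (fun a => (classIn X a.1 ∩ classIn X a.2).ncard) (Set.toFinite _) ⟨(P₀, Q₀), hPQ₀⟩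
    simp only [Set.mem_setOf_eq] at hPQ hmax
    set D := classIn X P ∩ classIn X Q
    have hfin : ∀ s : Set (Subgroup G), s.Finite := fun s => Set.toFinite s
    have hDP : D ⊂ classIn X P := by
      refine Set.ssubset_iff_subset_ne.mpr ⟨Set.inter_subset_left, fun e => hPQ ?_⟩
      exact Set.eq_of_subset_of_ncard_le (e.ge.trans Set.inter_subset_right)
        (ncard_classIn X P Q).le (hfin _)
    have hDQ : D ⊂ classIn X Q := by
      refine Set.ssubset_iff_subset_ne.mpr ⟨Set.inter_subset_right, fun e => hPQ ?_⟩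
      exact (Set.eq_of_subset_of_ncard_le (e.ge.trans Set.inter_subset_left)
        (ncard_classIn X P Q).ge (hfin _)).symm
    obtain ⟨Y, hY, hYD, hYn⟩ := exists_normalizing hDP
    obtain ⟨Y', hY', hY'D, hY'n⟩ := exists_normalizing hDQ
    obtain ⟨a, ha⟩ := hY.1
    obtain ⟨b, hb⟩ := hY'.1
    have hT : IsPGroup p ↥(Y ⊔ Y') := ha ▸ hb ▸ hpair a b
    have hR : IsPGroup p ↥(sSup D) := P.2.to_le (sSup_le fun Z hZ => hZ.1.2)
    obtain ⟨S, hS⟩ := (IsPGroup.to_sup_of_normal_right' hT hR (sup_le hYn hY'n)).exists_le_sylow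
    have hDS : D ⊆ classIn X S := fun Z hZ =>
      ⟨hZ.1.1, (le_sSup hZ).trans (le_sup_right.trans hS)⟩
    have key : ∀ (P' : Sylow p G) (W : Subgroup G), D ⊆ classIn X P' → W ∈ classIn X P' → W ∉ D →
        W ≤ S → classIn X P' = classIn X S := by
      intro P' W hDP' hW hWD hWS
      by_contra hne'
      have h2 : (classIn X P' ∩ classIn X S).ncard ≤ D.ncard := hmax (P', S) hne'
      have h3 : insert W D ⊆ classIn X P' ∩ classIn X S :=
        Set.insert_subset ⟨hW, hW.1, hWS⟩ fun Z hZ => ⟨hDP' hZ, hDS hZ⟩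
      have h4 := Set.ncard_le_ncard h3 (hfin _)
      rw [Set.ncard_insert_of_notMem hWD (hfin _)] at h4
      omega
    exact hPQ ((key P Y hDP.subset hY hYD ((le_sup_left.trans le_sup_left).trans hS)).trans
      (key Q Y' hDQ.subset hY' hY'D ((le_sup_right.trans le_sup_left).trans hS)).symm)
  refine ⟨Subgroup.normalClosure X, inferInstance, ?_,
    fun x hx => Subgroup.subset_normalClosure hx⟩
  obtain ⟨P⟩ : Nonempty (Sylow p G) := inferInstance
  have hX : IsPGroup p X := (h 1).to_le le_sup_left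
  refine P.2.to_le ((Subgroup.closure_le _).mpr fun x hx => ?_)
  obtain ⟨a, haX, hax⟩ := Group.mem_conjugatesOfSet_iff.mp hx
  obtain ⟨c, rfl⟩ := isConj_iff.mp hax
  obtain ⟨S, hS⟩ := (hX.map (MulAut.conj c).toMonoidHom).exists_le_sylow
  have hmem : X.map (MulAut.conj c).toMonoidHom ∈ classIn X S := ⟨⟨c, rfl⟩, hS⟩
  rw [hall S P] at hmem
  exact hmem.2 ⟨a, haX, rfl⟩

end Cfsg.Lib.BaerSuzuki
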