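import Cfsg.Agent.Quadratic.Natural
import Cfsg.Agent.Quadratic.BaerSuzuki
import Cfsg.Agent.Fusion.Qd
import Cfsg.Agent.Components.Cores

/-!
A group not involving `Qd(p)`, `p` odd, acts `p`-stably on its normal `p`-subgroups.
-/

set_option autoImplicit false

namespace Cfsg.Lib.QuadPair

open Matrix
open scoped commutatorElement

universe u

variable {p : ℕ} [Fact p.Prime]

/-- A section of an epimorphic image is a section. -/
theorem involves_of_surjective {G H Y : Type*} [Group G] [Group H] [Group Y] {f : G →* H}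
    (hf : Function.Surjective f) (h : Cfsg.Involves Y H) : Cfsg.Involves Y G := by
  obtain ⟨K, R, hR, ⟨e⟩⟩ := h
  haveI := hR
  let g : K.comap f →* K ⧸ R.subgroupOf K :=
    (QuotientGroup.mk' (R.subgroupOf K)).comp (f.subgroupComap K)
  have hg : Function.Surjective g := by
    intro y
    obtain ⟨⟨k, hk⟩, rfl⟩ := QuotientGroup.mk'_surjective _ y
    obtain ⟨x, rfl⟩ := hf k
    exact ⟨⟨x, hk⟩, rfl⟩
  have hker : (R.comap f).subgroupOf (K.comap f) = g.ker := by
    ext x
    rw [MonoidHom.mem_ker, MonoidHom.comp_apply, ← MonoidHom.mem_ker, QuotientGroup.ker_mk']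
    rfl
  have hn : ((R.comap f).subgroupOf (K.comap f)).Normal := hker ▸ g.normal_ker
  exact ⟨K.comap f, R.comap f, hn, ⟨(QuotientGroup.quotientMulEquivOfEq hker).trans
    ((QuotientGroup.quotientKerEquivOfSurjective g hg).trans e)⟩⟩

variable {G : Type u} [Group G] [Finite G]

/-- Conjugation on an elementary abelian normal subgroup, in coordinates. -/
theorem exists_coords (V : Subgroup G) [V.Normal] (hV : Cfsg.IsElementaryAbelian p V) :
    ∃ (n : ℕ) (ρ : G →* Matrix (Fin n) (Fin n) (ZMod p))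
      (ι : Multiplicative (Fin n → ZMod p) →* G),
      Function.Injective ι ∧ ι.range = V ∧
        ∀ (g : G) (x : Fin n → ZMod p),
          ι (Multiplicative.ofAdd (ρ g *ᵥ x)) = g * ι (Multiplicative.ofAdd x) * g⁻¹ := by
  haveI := hV.1
  letI : CommGroup V := { mul_comm := fun a b => IsMulCommutative.is_comm.comm a b }
  haveI : Finite (Additive V) := inferInstanceAs (Finite V)
  have hexp : ∀ v : Additive V, p • v = 0 := fun v => by
    show Additive.ofMul ((Additive.toMul v) ^ p) = 0
    rw [show (Additive.toMul v) ^ p = 1 from Subtype.ext (hV.2 _ (Additive.toMul v).2)]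
    rfl
  letI : Module (ZMod p) (Additive V) := AddCommGroup.zmodModule (n := p) hexp
  haveI : Module.Finite (ZMod p) (Additive V) := Module.Finite.of_finite
  let bb := Module.finBasis (ZMod p) (Additive V)
  let cj : G → (Additive V →+ Additive V) := fun g =>
    { toFun := fun v => Additive.ofMul ⟨g * (Additive.toMul v : V) * g⁻¹,
        Subgroup.Normal.conj_mem inferInstance _ (Additive.toMul v).2 g⟩
      map_zero' := congrArg Additive.ofMul (Subtype.ext (by
        show g * 1 * g⁻¹ = 1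
        group))
      map_add' := fun v w => congrArg Additive.ofMul (Subtype.ext (by
        show g * ((Additive.toMul v : V) * (Additive.toMul w : V) : G) * g⁻¹ =
          g * (Additive.toMul v : V) * g⁻¹ * (g * (Additive.toMul w : V) * g⁻¹)
        group)) }
  let lin : G → Module.End (ZMod p) (Additive V) := fun g =>
    { toFun := cj g, map_add' := map_add (cj g), map_smul' := fun c v => ZMod.map_smul (cj g) c v }
  let L : G →* Module.End (ZMod p) (Additive V) :=
    { toFun := lin
      map_one' := by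
        apply LinearMap.ext
        intro v
        apply Additive.toMul.injective
        apply Subtype.ext
        show (1 : G) * (Additive.toMul v : V) * (1 : G)⁻¹ = ((Additive.toMul v : V) : G)
        group
      map_mul' := fun g h => by
        apply LinearMap.ext
        intro v
        rw [Module.End.mul_apply]
        apply Additive.toMul.injective
        apply Subtype.ext
        show g * h * (Additive.toMul v : V) * (g * h)⁻¹ =
          g * (h * (Additive.toMul v : V) * h⁻¹) * g⁻¹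
        group }
  let T := LinearMap.toMatrixAlgEquiv bb
  refine ⟨_, T.toRingEquiv.toRingHom.toMonoidHom.comp L,
    V.subtype.comp (bb.equivFun.symm.toAddMonoidHom.toMultiplicativeLeft), ?_, ?_, fun g x => ?_⟩
  · exact V.subtype_injective.comp
      (Additive.toMul.injective.comp (bb.equivFun.symm.injective.comp Multiplicative.toAdd.injective))
  · refine le_antisymm ?_ fun v hv => ⟨Multiplicative.ofAdd (bb.equivFun (Additive.ofMul ⟨v, hv⟩)), ?_⟩
    · rintro _ ⟨x, rfl⟩
      exact SetLike.coe_mem _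
    · show ((Additive.toMul (bb.equivFun.symm (bb.equivFun (Additive.ofMul ⟨v, hv⟩))) : V) : G) = v
      rw [LinearEquiv.symm_apply_apply]
      rfl
  · have h := LinearMap.toMatrix_mulVec_repr bb bb (L g) (bb.equivFun.symm x)
    show ((Additive.toMul (bb.equivFun.symm (T (L g) *ᵥ x)) : V) : G) =
      g * ((Additive.toMul (bb.equivFun.symm x) : V) : G) * g⁻¹
    have hx : (bb.repr (bb.equivFun.symm x) : Fin _ → ZMod p) = x := bb.equivFun.apply_symm_apply x
    rw [hx] at h
    rw [show T (L g) *ᵥ x = bb.equivFun (L g (bb.equivFun.symm x)) from h,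
      LinearEquiv.symm_apply_apply]
    rfl

/-- A quadratic element outside the core of the action gives `Qd(p)`. -/
theorem involves_qd_of_quadratic (hp : p ≠ 2) (V : Subgroup G) [V.Normal]
    (hV : Cfsg.IsElementaryAbelian p V) {a : G}
    (hq : ⁅⁅V, Subgroup.zpowers a⁆, Subgroup.zpowers a⁆ = ⊥)
    (hna : (QuotientGroup.mk a : G ⧸ Subgroup.centralizer (V : Set G)) ∉
      Cfsg.pCore p (G ⧸ Subgroup.centralizer (V : Set G))) :
    Cfsg.Involves ↥(Cfsg.qd p) G := by
  obtain ⟨n, ρ, ι, hι, hιV, hρι⟩ := exists_coords V hV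
  have hker : ∀ g : G, ρ g = 1 ↔ g ∈ Subgroup.centralizer (V : Set G) := by
    intro g
    constructor
    · intro h
      refine Subgroup.mem_centralizer_iff.mpr fun v hv => ?_
      rw [← hιV] at hv
      obtain ⟨x, rfl⟩ := hv
      have h1 := hρι g x.toAdd
      rw [h, one_mulVec] at h1
      conv_lhs => rw [show ι x = g * ι x * g⁻¹ from h1]
      group
    · intro h
      refine Matrix.ext_of_mulVec_single fun i => ?_
      rw [one_mulVec]
      refine Multiplicative.ofAdd.injective (hι ?_)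
      rw [hρι, ← Subgroup.mem_centralizer_iff.mp h _ (hιV ▸ ⟨_, rfl⟩), mul_inv_cancel_right]
  let C := Subgroup.centralizer (V : Set G)
  let ρC : G ⧸ C →* Matrix (Fin n) (Fin n) (ZMod p) :=
    { toFun := Quotient.lift ρ fun x y hxy => by
        have hxy' : x⁻¹ * y ∈ C := QuotientGroup.leftRel_apply.mp hxy
        rw [← mul_inv_cancel_left x y, map_mul, (hker _).mpr hxy', mul_one]
      map_one' := map_one ρ
      map_mul' := by
        rintro ⟨x⟩ ⟨y⟩
        exact map_mul ρ x y }
  have hρC : Function.Injective ρC := by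
    rintro ⟨x⟩ ⟨y⟩ e
    refine QuotientGroup.eq.mpr ((hker _).mp ?_)
    rw [map_mul, show ρ y = ρ x from e.symm, ← map_mul, inv_mul_cancel, map_one]
  have ha : (ρ a - 1) * (ρ a - 1) = 0 := by
    refine Matrix.ext_of_mulVec_single fun i => ?_
    rw [zero_mulVec, ← mulVec_mulVec]
    set x : Fin n → ZMod p := Pi.single i 1
    simp only [sub_mulVec, one_mulVec]
    rw [sub_eq_zero]
    refine Multiplicative.ofAdd.injective (hι ?_)
    rw [hρι]
    simp only [ofAdd_sub, div_eq_mul_inv, map_mul, map_inv, hρι]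
    set v := ι (Multiplicative.ofAdd x)
    have hvV : v ∈ V := hιV ▸ ⟨_, rfl⟩
    have h1 : ⁅v, a⁆ ∈ ⁅V, Subgroup.zpowers a⁆ :=
      Subgroup.commutator_mem_commutator hvV (Subgroup.mem_zpowers _)
    have h2 : ⁅⁅v, a⁆, a⁆ = 1 := by
      have := Subgroup.commutator_mem_commutator h1 (Subgroup.mem_zpowers a)
      rwa [hq, Subgroup.mem_bot] at this
    have h4 := (show Commute ⁅v, a⁆ a from commutatorElement_eq_one_iff_commute.mp h2).inv_left
    rw [commutatorElement_inv, commutatorElement_def] at h4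
    rw [← h4.eq, mul_inv_cancel_right]
  -- two conjugates generating no `p`-group
  obtain ⟨c, hc⟩ : ∃ c : G ⧸ C, ¬ IsPGroup p ↥(Subgroup.zpowers (QuotientGroup.mk a : G ⧸ C) ⊔
      (Subgroup.zpowers (QuotientGroup.mk a : G ⧸ C)).map (MulAut.conj c).toMonoidHom) := by
    by_contra h
    push Not at h
    obtain ⟨N, hNn, hNp, haN⟩ := BaerSuzuki.baer_suzuki _ h
    exact hna (Cfsg.Lib.Components.le_pCore hNp (haN (Subgroup.mem_zpowers _)))
  obtain ⟨g, rfl⟩ := QuotientGroup.mk'_surjective C c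
  set K := Subgroup.closure ({(QuotientGroup.mk a : G ⧸ C), QuotientGroup.mk (g * a * g⁻¹)} : Set (G ⧸ C))
  let a' : K := ⟨QuotientGroup.mk a, Subgroup.subset_closure (Set.mem_insert _ _)⟩
  let b' : K := ⟨QuotientGroup.mk (g * a * g⁻¹), Subgroup.subset_closure (Set.mem_insert_of_mem _ rfl)⟩
  have hgen : Subgroup.closure ({a', b'} : Set K) = ⊤ := by
    refine eq_top_iff.mpr ((Subgroup.closure_closure_coe_preimage
      (k := ({(QuotientGroup.mk a : G ⧸ C), QuotientGroup.mk (g * a * g⁻¹)} : Set (G ⧸ C)))).ge.trans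
        (Subgroup.closure_mono ?_))
    rintro ⟨z, hz⟩ hz'
    rcases hz' with hz'' | hz''
    · exact Or.inl (Subtype.ext hz'')
    · exact Or.inr (Subtype.ext hz'')
  have hb : (ρ (g * a * g⁻¹) - 1) * (ρ (g * a * g⁻¹) - 1) = 0 := by
    have e : ρ (g * a * g⁻¹) - 1 = ρ g * (ρ a - 1) * ρ g⁻¹ := by
      rw [mul_sub, sub_mul, mul_one, ← map_mul, ← map_mul, ← map_mul, mul_inv_cancel, map_one]
    rw [e, show ρ g * (ρ a - 1) * ρ g⁻¹ * (ρ g * (ρ a - 1) * ρ g⁻¹) =
      ρ g * ((ρ a - 1) * (ρ g⁻¹ * ρ g) * (ρ a - 1)) * ρ g⁻¹ by simp only [mul_assoc],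
      ← map_mul, inv_mul_cancel, map_one, mul_one, ha, mul_zero, zero_mul]
  obtain ⟨f₁, f₂, hind, hact⟩ := exists_natural_plane hp (ρC.comp K.subtype)
    (hρC.comp K.subtype_injective) hgen (a := a') (b := b') ha hb fun hK => hc (hK.to_le (sup_le
      (Subgroup.zpowers_le.mpr a'.2) (by
        rw [MonoidHom.map_zpowers, Subgroup.zpowers_le]
        exact b'.2)))
  -- the natural plane inside `V`
  let j : Fusion.V2 p →* G :=
    ι.comp (AddMonoidHom.toMultiplicative
      { toFun := fun v : Fin 2 → ZMod p => v 0 • f₁ + v 1 • f₂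
        map_zero' := by simp
        map_add' := fun v w => by simp only [Pi.add_apply, add_smul]; abel })
  have hj : Function.Injective j := by
    refine hι.comp fun v w e => ?_
    have e' : v.toAdd 0 • f₁ + v.toAdd 1 • f₂ = w.toAdd 0 • f₁ + w.toAdd 1 • f₂ :=
      congrArg Multiplicative.toAdd e
    obtain ⟨h0, h1⟩ := hind (v.toAdd 0 - w.toAdd 0) (v.toAdd 1 - w.toAdd 1)
      (by rw [sub_smul, sub_smul, sub_add_sub_comm, e', sub_self])
    refine Multiplicative.toAdd.injective (funext fun i => ?_)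
    fin_cases i
    · exact sub_eq_zero.mp h0
    · exact sub_eq_zero.mp h1
  let eJ := MonoidHom.ofInjective hj
  refine Fusion.involves_of_isQdWitness (Q0 := j.range) (π := eJ.symm.toMonoidHom)
    ⟨fun x => ⟨1, ?_⟩, eJ.symm.surjective, fun M => ?_⟩
  · obtain ⟨w, hw⟩ := x.2
    refine Subtype.ext ?_
    rw [SubgroupClass.coe_pow, pow_one, OneMemClass.coe_one]
    refine hV.2 _ (hιV ▸ ?_)
    rw [← hw]
    exact ⟨_, rfl⟩
  obtain ⟨⟨y, hy⟩, h1, h2⟩ := hact M
  obtain ⟨h, rfl⟩ := QuotientGroup.mk'_surjective C y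
  refine ⟨h, fun x => ?_⟩
  obtain ⟨w, rfl⟩ := eJ.surjective x
  refine ⟨eJ (Fusion.actV M w), ?_, ?_⟩
  · show j (Fusion.actV M w) = h * j w * h⁻¹
    show ι (Multiplicative.ofAdd ((M.1 *ᵥ w.toAdd) 0 • f₁ + (M.1 *ᵥ w.toAdd) 1 • f₂)) =
      h * ι (Multiplicative.ofAdd (w.toAdd 0 • f₁ + w.toAdd 1 • f₂)) * h⁻¹
    rw [← hρι]
    refine congrArg (fun z => ι (Multiplicative.ofAdd z)) ?_
    have h1' : ρ h *ᵥ f₁ = M.1 0 0 • f₁ + M.1 1 0 • f₂ := h1
    have h2' : ρ h *ᵥ f₂ = M.1 0 1 • f₁ + M.1 1 1 • f₂ := h2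
    rw [mulVec_add, mulVec_smul, mulVec_smul, h1', h2', SLTwoSub.mulVec_two, SLTwoSub.mulVec_two]
    module
  · show eJ.symm (eJ _) = Fusion.actV M (eJ.symm (eJ w))
    rw [MulEquiv.symm_apply_apply, MulEquiv.symm_apply_apply]

/-- An elementary abelian nontrivial normal subgroup inside a nontrivial normal `p`-subgroup. -/
theorem exists_elementary_le {B : Subgroup G} [B.Normal] (hB : IsPGroup p B) (hne : B ≠ ⊥) :
    ∃ V : Subgroup G, V.Normal ∧ V ≤ B ∧ V ≠ ⊥ ∧ Cfsg.IsElementaryAbelian p V := by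
  let V : Subgroup G :=
    { carrier := {x | x ∈ B ∧ x ^ p = 1 ∧ x ∈ Subgroup.centralizer (B : Set G)}
      one_mem' := ⟨B.one_mem, one_pow p, Subgroup.one_mem _⟩
      mul_mem' := fun {x y} hx hy => ⟨B.mul_mem hx.1 hy.1, by
          rw [(show Commute x y from (Subgroup.mem_centralizer_iff.mp hx.2.2 y hy.1).symm).mul_pow,
            hx.2.1, hy.2.1, one_mul], Subgroup.mul_mem _ hx.2.2 hy.2.2⟩
      inv_mem' := fun {x} hx => ⟨B.inv_mem hx.1, by rw [inv_pow, hx.2.1, inv_one],
        Subgroup.inv_mem _ hx.2.2⟩ }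
  have hVn : V.Normal := ⟨fun x hx g => ⟨Subgroup.Normal.conj_mem inferInstance x hx.1 g,
    by rw [conj_pow, hx.2.1, mul_one, mul_inv_cancel],
    Subgroup.Normal.conj_mem Subgroup.normal_centralizer x hx.2.2 g⟩⟩
  refine ⟨V, hVn, fun x hx => hx.1, fun h => ?_, ⟨⟨fun x y => Subtype.ext
    (Subgroup.mem_centralizer_iff.mp y.2.2.2 x x.2.1)⟩⟩, fun x hx => hx.2.1⟩
  haveI : Nontrivial B := (Subgroup.nontrivial_iff_ne_bot B).mpr hne
  haveI := hB.center_nontrivial
  obtain ⟨m, hm, hm'⟩ := (hB.to_subgroup (Subgroup.center B)).nontrivial_iff_card.mp inferInstance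
  obtain ⟨x, hx⟩ := exists_prime_orderOf_dvd_card' p (G := Subgroup.center B)
    (hm' ▸ dvd_pow_self p (by omega))
  have hxV : ((x : B) : G) ∈ V := ⟨(x : B).2, by
      have := pow_orderOf_eq_one x
      rw [hx] at this
      exact congrArg (fun z : Subgroup.center B => ((z : B) : G)) this,
    Subgroup.mem_centralizer_iff.mpr fun y hy =>
      congrArg Subtype.val (Subgroup.mem_center_iff.mp x.2 ⟨y, hy⟩)⟩
  rw [h, Subgroup.mem_bot] at hxV
  have : x = 1 := Subtype.ext (Subtype.ext hxV)
  rw [this, orderOf_one] at hx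
  exact (Fact.out : p.Prime).ne_one hx.symm

/-- The preimage of the core of the action, with its defining power. -/
theorem exists_core_power (C : Subgroup G) [C.Normal] :
    ∃ k : ℕ, ∀ d : G, (QuotientGroup.mk d : G ⧸ C) ∈ Cfsg.pCore p (G ⧸ C) → d ^ p ^ k ∈ C := by
  obtain ⟨k, hk⟩ := IsPGroup.iff_card.mp (Cfsg.Lib.Components.isPGroup_pCore (p := p) (G := G ⧸ C))
  refine ⟨k, fun d hd => ?_⟩
  have h := congrArg Subtype.val
    (pow_card_eq_one' (x := (⟨_, hd⟩ : Cfsg.pCore p (G ⧸ C))))
  rw [hk] at h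
  exact (QuotientGroup.eq_one_iff _).mp h

/-- **`Qd(p)`-free groups are stable**: `p`-stable action on every normal `p`-subgroup. -/
theorem stable_of_qd_free (hp : p ≠ 2) : ∀ (n : ℕ) (G : Type u) [Group G] [Finite G],
    ¬ Cfsg.Involves ↥(Cfsg.qd p) G → ∀ (B : Subgroup G) [B.Normal], IsPGroup p B → Nat.card B = n →
      Cfsg.IsPStableOn p B := by
  intro n
  induction n using Nat.strong_induction_on with
  | _ n ih =>
  intro G _ _ hqd B _ hB hn a hq
  by_cases hne : B = ⊥
  · have hC : Subgroup.centralizer (B : Set G) = ⊤ := by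
      rw [hne]
      exact eq_top_iff.mpr fun x _ => Subgroup.mem_centralizer_iff.mpr fun y hy => by
        rw [Subgroup.mem_bot.mp hy, one_mul, mul_one]
    have : (QuotientGroup.mk a : G ⧸ Subgroup.centralizer (B : Set G)) = 1 :=
      (QuotientGroup.eq_one_iff a).mpr (hC ▸ Subgroup.mem_top a)
    rw [this]
    exact one_mem _
  obtain ⟨V, hVn, hVB, hVne, hV⟩ := exists_elementary_le hB hne
  haveI := hVn
  have haV : (QuotientGroup.mk a : G ⧸ Subgroup.centralizer (V : Set G)) ∈
      Cfsg.pCore p (G ⧸ Subgroup.centralizer (V : Set G)) := by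
    by_contra h
    refine hqd (involves_qd_of_quadratic hp V hV (le_bot_iff.mp (le_trans ?_ hq.le)) h)
    exact Subgroup.commutator_mono (Subgroup.commutator_mono hVB le_rfl) le_rfl
  set f := QuotientGroup.mk' V
  haveI hBn : (B.map f).Normal := Subgroup.Normal.map inferInstance f (QuotientGroup.mk'_surjective V)
  have hlt : Nat.card (B.map f) < n := by
    have h1 : Nat.card (B.map f) = V.relIndex B := by
      rw [← Subgroup.relIndex_bot_left, ← Subgroup.map_bot f, Subgroup.relIndex_map_map,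
        bot_sup_eq, QuotientGroup.ker_mk', sup_eq_left.mpr hVB]
    have h2 : Nat.card V * V.relIndex B = n := by
      rw [← Subgroup.relIndex_bot_left V, Subgroup.relIndex_mul_relIndex ⊥ V B bot_le hVB,
        Subgroup.relIndex_bot_left, hn]
    have h3 : 1 < Nat.card V := (Subgroup.one_lt_card_iff_ne_bot V).mpr hVne
    have h4 : 0 < V.relIndex B := Nat.pos_of_ne_zero fun h => by
      rw [h, mul_zero] at h2; exact absurd (hn.trans h2.symm) (Nat.card_pos).ne'
    rw [h1]
    calc V.relIndex B < Nat.card V * V.relIndex B := lt_mul_of_one_lt_left h4 h3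
      _ = n := h2
  have hbar := ih _ hlt (G ⧸ V)
    (fun h => hqd (involves_of_surjective (QuotientGroup.mk'_surjective V) h)) (B.map f)
    (hB.map f) rfl (f a) (by
      rw [← MonoidHom.map_zpowers, ← Subgroup.map_commutator, ← Subgroup.map_commutator, hq,
        Subgroup.map_bot])
  -- the two cores
  set C₁ := Subgroup.centralizer (V : Set G)
  set C₂ := Subgroup.centralizer ((B.map f : Subgroup (G ⧸ V)) : Set (G ⧸ V))
  obtain ⟨k₁, hk₁⟩ := exists_core_power (p := p) C₁
  obtain ⟨k₂, hk₂⟩ := exists_core_power (p := p) C₂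
  set D₁ := (Cfsg.pCore p (G ⧸ C₁)).comap (QuotientGroup.mk' C₁)
  set D₂ := ((Cfsg.pCore p ((G ⧸ V) ⧸ C₂)).comap (QuotientGroup.mk' C₂)).comap f
  haveI : D₁.Normal := inferInstance
  haveI : D₂.Normal := inferInstance
  obtain ⟨m, hm⟩ := IsPGroup.iff_card.mp (hB.to_le hVB)
  -- powers of the intersection centralize `B`
  have hcent : ∀ d ∈ D₁ ⊓ D₂, d ^ p ^ (k₁ + k₂ + m) ∈ Subgroup.centralizer (B : Set G) := by
    intro d hd
    set e := d ^ p ^ (k₁ + k₂) with he
    have heV : e ∈ C₁ := by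
      rw [he, pow_add, pow_mul]
      exact C₁.pow_mem (hk₁ d hd.1) _
    have heB : f e ∈ C₂ := by
      rw [map_pow, pow_add, mul_comm (p ^ k₁), pow_mul]
      exact C₂.pow_mem (hk₂ (f d) hd.2) _
    rw [pow_add, pow_mul, ← he]
    refine Subgroup.mem_centralizer_iff.mpr fun x hx => ?_
    set v := x⁻¹ * (e * x * e⁻¹) with hv
    have hvV : v ∈ V := by
      rw [← QuotientGroup.eq_one_iff]
      have hc := Subgroup.mem_centralizer_iff.mp heB (f x) ⟨x, hx, rfl⟩
      show f v = 1
      rw [hv, map_mul, map_mul, map_mul, map_inv, map_inv, ← hc, mul_inv_cancel_right, inv_mul_cancel]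
    have hev : e * v * e⁻¹ = v := by
      rw [← Subgroup.mem_centralizer_iff.mp heV v hvV, mul_inv_cancel_right]
    have hpow : ∀ i : ℕ, e ^ i * x * (e ^ i)⁻¹ = x * v ^ i := by
      intro i
      induction i with
      | zero => simp
      | succ i ih =>
        calc e ^ (i + 1) * x * (e ^ (i + 1))⁻¹ = e * (e ^ i * x * (e ^ i)⁻¹) * e⁻¹ := by
              rw [pow_succ']; group
          _ = e * x * e⁻¹ * (e * v ^ i * e⁻¹) := by rw [ih]; group
          _ = x * v * v ^ i := by rw [← conj_pow, hev, hv, mul_inv_cancel_left]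
          _ = x * v ^ (i + 1) := by rw [pow_succ', mul_assoc]
    have h1 := hpow (p ^ m)
    have h0 : v ^ p ^ m = 1 := by
      rw [← hm]
      exact congrArg Subtype.val (pow_card_eq_one' (x := (⟨v, hvV⟩ : V)))
    rw [h0, mul_one] at h1
    exact (mul_inv_eq_iff_eq_mul.mp h1).symm
  have hmap : IsPGroup p ((D₁ ⊓ D₂).map (QuotientGroup.mk' (Subgroup.centralizer (B : Set G)))) := by
    rintro ⟨_, d, hd, rfl⟩
    refine ⟨k₁ + k₂ + m, Subtype.ext ?_⟩
    rw [SubgroupClass.coe_pow, OneMemClass.coe_one, ← map_pow]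
    exact (QuotientGroup.eq_one_iff _).mpr (hcent d hd)
  have hn' : ((D₁ ⊓ D₂).map (QuotientGroup.mk' (Subgroup.centralizer (B : Set G)))).Normal :=
    Subgroup.Normal.map inferInstance _ (QuotientGroup.mk'_surjective _)
  exact Cfsg.Lib.Components.le_pCore hmap ⟨a, ⟨haV, hbar⟩, rfl⟩

end Cfsg.Lib.QuadPair
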