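import Cfsg.Agent.Quadratic.SLTwoDickson
import Mathlib.LinearAlgebra.Matrix.Charpoly.Coeff
import Mathlib.LinearAlgebra.Matrix.ToLinearEquiv
import Mathlib.FieldTheory.IsAlgClosed.AlgebraicClosure

/-!
Two quadratic unipotent generators of a finite linear group in odd characteristic `p`: the group
is a `p`-group or it maps onto a subgroup containing `SL₂(p)`.
-/

set_option autoImplicit false

namespace Cfsg.Lib.QuadPair

open Matrix Polynomial

variable {k : Type*} [Field k] {n : ℕ} {p : ℕ} [Fact p.Prime] [CharP k p]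
variable {K : Type*} [Group K] [Finite K]

local notation "Mat" => Matrix (Fin n) (Fin n) k

/-- The alternating products of `A` and `B`. -/
def alt (A B : Matrix (Fin n) (Fin n) k) : ℕ → Matrix (Fin n) (Fin n) k × Matrix (Fin n) (Fin n) k
  | 0 => (1, 1)
  | j + 1 => (A * (alt A B j).2, B * (alt A B j).1)

/-- The products beginning with an alternating word of the given length. -/
def filt (A B : Matrix (Fin n) (Fin n) k) (j : ℕ) : Set (Matrix (Fin n) (Fin n) k) :=
  {M | ∃ X Y, M = (alt A B j).1 * X + (alt A B j).2 * Y}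

section

variable {A B : Matrix (Fin n) (Fin n) k}

omit [CharP k p] in
theorem filt_add {j : ℕ} {M N : Mat} (hM : M ∈ filt A B j) (hN : N ∈ filt A B j) :
    M + N ∈ filt A B j := by
  obtain ⟨X, Y, rfl⟩ := hM
  obtain ⟨X', Y', rfl⟩ := hN
  exact ⟨X + X', Y + Y', by rw [mul_add, mul_add]; abel⟩

omit [CharP k p] in
theorem filt_zero (j : ℕ) : (0 : Mat) ∈ filt A B j := ⟨0, 0, by simp⟩

omit [CharP k p] in
theorem one_mem_filt : (1 : Mat) ∈ filt A B 0 := ⟨1, 0, by simp [alt]⟩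

omit [CharP k p] in
theorem mul_left_mem (hA : A * A = 0) {j : ℕ} {M : Mat} (hM : M ∈ filt A B j) :
    A * M ∈ filt A B (j + 1) := by
  obtain ⟨X, Y, rfl⟩ := hM
  rcases j with _ | j
  · exact ⟨X + Y, 0, by simp [alt, mul_add]⟩
  · refine ⟨Y, 0, ?_⟩
    show A * ((alt A B (j + 1)).1 * X + (alt A B (j + 1)).2 * Y) = _
    rw [mul_add, ← mul_assoc, ← mul_assoc,
      show A * (alt A B (j + 1)).1 = 0 by simp [alt, ← mul_assoc, hA], zero_mul, zero_add, mul_zero,
      add_zero]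
    rfl

omit [CharP k p] in
theorem mul_right_mem (hB : B * B = 0) {j : ℕ} {M : Mat} (hM : M ∈ filt A B j) :
    B * M ∈ filt A B (j + 1) := by
  obtain ⟨X, Y, rfl⟩ := hM
  rcases j with _ | j
  · exact ⟨0, X + Y, by simp [alt, mul_add]⟩
  · refine ⟨0, X, ?_⟩
    show B * ((alt A B (j + 1)).1 * X + (alt A B (j + 1)).2 * Y) = _
    rw [mul_add, ← mul_assoc, ← mul_assoc,
      show B * (alt A B (j + 1)).2 = 0 by simp [alt, ← mul_assoc, hB], zero_mul, add_zero, mul_zero,
      zero_add]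
    rfl

omit [CharP k p] in
theorem filt_anti (hA : A * A = 0) (hB : B * B = 0) :
    ∀ (j : ℕ) (M : Mat), M ∈ filt A B (j + 1) → M ∈ filt A B j := by
  intro j
  induction j with
  | zero => exact fun M _ => ⟨M, 0, by simp [alt]⟩
  | succ j ih =>
    have h : ∀ (i : ℕ) (X Y : Mat), (∀ Z : Mat, (alt A B i).1 * Z ∈ filt A B j) →
        (∀ Z : Mat, (alt A B i).2 * Z ∈ filt A B j) →
        (alt A B (i + 1)).1 * X + (alt A B (i + 1)).2 * Y ∈ filt A B (j + 1) := fun i X Y h1 h2 =>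
      filt_add (by rw [show (alt A B (i + 1)).1 = A * (alt A B i).2 from rfl, mul_assoc]
                   exact mul_left_mem hA (h2 X))
        (by rw [show (alt A B (i + 1)).2 = B * (alt A B i).1 from rfl, mul_assoc]
            exact mul_right_mem hB (h1 Y))
    rintro M ⟨X, Y, rfl⟩
    exact h (j + 1) X Y (fun Z => ih _ ⟨Z, 0, by simp⟩) (fun Z => ih _ ⟨0, Z, by simp⟩)

omit [CharP k p] in
theorem alt_even (m : ℕ) : alt A B (2 * m) = ((A * B) ^ m, (B * A) ^ m) := by
  induction m with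
  | zero => simp [alt]
  | succ m ih =>
    rw [show 2 * (m + 1) = 2 * m + 1 + 1 from by ring]
    show (A * (B * (alt A B (2 * m)).1), B * (A * (alt A B (2 * m)).2)) = _
    rw [ih, pow_succ', pow_succ', mul_assoc, mul_assoc]

omit [CharP k p] in
theorem filt_eq_zero {N : ℕ} (hN : (A * B) ^ N = 0) : filt A B (2 * (N + 1)) = {0} := by
  have h2 : (B * A) ^ (N + 1) = 0 := by
    have : ∀ m, B * (A * B) ^ m * A = (B * A) ^ (m + 1) := by
      intro m
      induction m with
      | zero => simp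
      | succ m ih => rw [pow_succ', pow_succ' (B * A) (m + 1), ← ih]; simp only [mul_assoc]
    rw [← this, hN, mul_zero, zero_mul]
  ext M
  constructor
  · rintro ⟨X, Y, rfl⟩
    rw [alt_even, pow_succ, hN, h2]
    simp
  · rintro rfl
    exact filt_zero _

end

/-- The nilpotent case: a `p`-group. -/
theorem isPGroup_of_nilpotent (ρ : K →* Matrix (Fin n) (Fin n) k) (hρ : Function.Injective ρ)
    {a b : K} (hgen : Subgroup.closure {a, b} = ⊤) (ha : (ρ a - 1) * (ρ a - 1) = 0)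
    (hb : (ρ b - 1) * (ρ b - 1) = 0) (hnil : IsNilpotent ((ρ a - 1) * (ρ b - 1))) :
    IsPGroup p K := by
  set A := ρ a - 1
  set B := ρ b - 1
  let S : Submonoid K :=
    { carrier := {g | ∀ j, ∀ M ∈ filt A B j, (ρ g - 1) * M ∈ filt A B (j + 1)}
      one_mem' := fun j M _ => by rw [map_one, sub_self, zero_mul]; exact filt_zero _
      mul_mem' := fun {g h} hg hh j M hM => by
        have e : (ρ (g * h) - 1) * M =
            (ρ g - 1) * ((ρ h - 1) * M) + (ρ g - 1) * M + (ρ h - 1) * M := by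
          rw [map_mul]; noncomm_ring
        rw [e]
        exact filt_add (filt_add (filt_anti ha hb _ _ (hg _ _ (hh j M hM))) (hg j M hM)) (hh j M hM) }
  have hS : ∀ g : K, g ∈ S := by
    intro g
    have hg : g ∈ Subgroup.closure {a, b} := hgen.symm ▸ Subgroup.mem_top g
    induction hg using Subgroup.closure_induction with
    | mem x hx =>
      rcases hx with rfl | hx
      · exact fun j M hM => mul_left_mem ha hM
      · rw [Set.mem_singleton_iff.mp hx]
        exact fun j M hM => mul_right_mem hb hM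
    | one => exact S.one_mem
    | mul x y _ _ hx hy => exact S.mul_mem hx hy
    | inv x _ hx =>
      obtain ⟨m, hm⟩ : ∃ m : ℕ, x⁻¹ = x ^ m := by
        refine ⟨orderOf x - 1, inv_eq_of_mul_eq_one_right ?_⟩
        rw [← pow_succ', Nat.sub_add_cancel (orderOf_pos x), pow_orderOf_eq_one]
      rw [hm]
      exact S.pow_mem hx m
  obtain ⟨N, hN⟩ := hnil
  obtain ⟨m, hm⟩ : ∃ m, 2 * (N + 1) ≤ p ^ m :=
    ⟨2 * (N + 1), (Nat.lt_pow_self (Fact.out : p.Prime).one_lt).le⟩
  intro g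
  refine ⟨m, hρ ?_⟩
  have hpow : ∀ i, (ρ g - 1) ^ i ∈ filt A B i := by
    intro i
    induction i with
    | zero => exact one_mem_filt
    | succ i ih => rw [pow_succ']; exact hS g i _ ih
  have h0 : (ρ g - 1) ^ (2 * (N + 1)) = 0 := by
    have := hpow (2 * (N + 1))
    rw [filt_eq_zero hN] at this
    exact this
  rcases Nat.eq_zero_or_pos n with hn | hn
  · subst hn
    exact Subsingleton.elim _ _
  haveI : Nonempty (Fin n) := ⟨⟨0, hn⟩⟩
  have h1 : (ρ g - 1) ^ p ^ m = 0 := pow_eq_zero_of_le hm h0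
  rw [sub_pow_char_pow_of_commute p m (Commute.one_right (ρ g)), one_pow, sub_eq_zero] at h1
  rw [map_pow, h1, map_one]

/-- A nonzero eigenvalue of a matrix that is not nilpotent. -/
theorem exists_eigen [IsAlgClosed k] {M : Matrix (Fin n) (Fin n) k} (h : ¬ IsNilpotent M) :
    ∃ (μ : k) (v : Fin n → k), μ ≠ 0 ∧ v ≠ 0 ∧ M *ᵥ v = μ • v := by
  obtain ⟨g, hg, hg0⟩ := M.charpoly.exists_eq_pow_rootMultiplicity_mul_and_not_dvd
    M.charpoly_monic.ne_zero 0
  rw [C_0, sub_zero] at hg hg0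
  have hdeg : g.degree ≠ 0 := by
    intro hd
    have hu := Polynomial.eq_C_of_degree_eq_zero hd
    have h1 := Matrix.aeval_self_charpoly M
    rw [hg, map_mul, map_pow, aeval_X, hu, aeval_C] at h1
    have hc : g.coeff 0 ≠ 0 := fun e => hg0 (Polynomial.X_dvd_iff.mpr e)
    refine h ⟨M.charpoly.rootMultiplicity 0, ?_⟩
    have := congrArg (· * algebraMap k (Matrix (Fin n) (Fin n) k) (g.coeff 0)⁻¹) h1
    simp only [mul_assoc, ← map_mul, mul_inv_cancel₀ hc, map_one, mul_one, zero_mul] at this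
    exact this
  obtain ⟨μ, hμ⟩ := IsAlgClosed.exists_root g hdeg
  have hμ0 : μ ≠ 0 := fun e => hg0 (Polynomial.X_dvd_iff.mpr (by
    rw [Polynomial.coeff_zero_eq_eval_zero]; exact e ▸ hμ.eq_zero))
  have hdet : (Matrix.scalar (Fin n) μ - M).det = 0 := by
    rw [← Matrix.eval_charpoly, hg, eval_mul, hμ.eq_zero, mul_zero]
  obtain ⟨v, hv, hv'⟩ := Matrix.exists_mulVec_eq_zero_iff.mpr hdet
  refine ⟨μ, v, hμ0, hv, ?_⟩
  rw [sub_mulVec, sub_eq_zero] at hv'
  rw [← hv', Matrix.scalar_apply, ← smul_one_eq_diagonal, smul_mulVec, one_mulVec]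

/-- The image in `SL₂` on the plane of an eigenvector. -/
theorem exists_planeHom [IsAlgClosed k] (ρ : K →* Matrix (Fin n) (Fin n) k) {a b : K}
    (hgen : Subgroup.closure {a, b} = ⊤) (ha : (ρ a - 1) * (ρ a - 1) = 0)
    (hb : (ρ b - 1) * (ρ b - 1) = 0) (hnil : ¬ IsNilpotent ((ρ a - 1) * (ρ b - 1))) :
    ∃ (μ : k) (ψ : K →* Matrix.SpecialLinearGroup (Fin 2) k) (v w : Fin n → k), μ ≠ 0 ∧
      (ψ a).1 = !![1, μ; 0, 1] ∧ (ψ b).1 = !![1, 0; 1, 1] ∧
      (∀ s t : k, s • v + t • w = 0 → s = 0 ∧ t = 0) ∧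
      ∀ g, ρ g *ᵥ v = (ψ g).1 0 0 • v + (ψ g).1 1 0 • w ∧
        ρ g *ᵥ w = (ψ g).1 0 1 • v + (ψ g).1 1 1 • w := by
  obtain ⟨μ, v, hμ, hv, he⟩ := exists_eigen hnil
  set A := ρ a - 1 with hAdef
  set B := ρ b - 1 with hBdef
  rw [← mulVec_mulVec] at he
  set w := B *ᵥ v with hwdef
  have hAv : A *ᵥ v = 0 := by
    have h1 := congrArg (A *ᵥ ·) he
    simp only [mulVec_mulVec, ha, zero_mulVec, mulVec_smul] at h1
    exact (smul_eq_zero.mp h1.symm).resolve_left hμ
  have hBw : B *ᵥ w = 0 := by rw [hwdef, mulVec_mulVec, hb, zero_mulVec]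
  have hind : ∀ s t : k, s • v + t • w = 0 → s = 0 ∧ t = 0 := by
    intro s t h
    have h1 := congrArg (A *ᵥ ·) h
    simp only [mulVec_add, mulVec_smul, hAv, smul_zero, zero_add, mulVec_zero, he, smul_smul] at h1
    have ht : t = 0 := by
      rcases smul_eq_zero.mp h1 with e | e
      · exact (mul_eq_zero.mp e).resolve_right hμ
      · exact absurd e hv
    rw [ht, zero_smul, add_zero] at h
    exact ⟨(smul_eq_zero.mp h).resolve_right hv, ht⟩
  let R : K → Matrix.SpecialLinearGroup (Fin 2) k → Prop := fun g M =>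
    ρ g *ᵥ v = M.1 0 0 • v + M.1 1 0 • w ∧ ρ g *ᵥ w = M.1 0 1 • v + M.1 1 1 • w
  have huniq : ∀ g M M', R g M → R g M' → M = M' := by
    intro g M M' h h'
    have key : ∀ s t s' t' : k, s • v + t • w = s' • v + t' • w → s = s' ∧ t = t' := by
      intro s t s' t' e
      obtain ⟨h1, h2⟩ := hind (s - s') (t - t') (by
        rw [sub_smul, sub_smul, sub_add_sub_comm, e, sub_self])
      exact ⟨sub_eq_zero.mp h1, sub_eq_zero.mp h2⟩
    obtain ⟨h00, h10⟩ := key _ _ _ _ (h.1.symm.trans h'.1)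
    obtain ⟨h01, h11⟩ := key _ _ _ _ (h.2.symm.trans h'.2)
    exact SLTwoSub.ext_entries h00 h01 h10 h11
  have hR1 : R 1 1 := ⟨by simp, by simp⟩
  have hRmul : ∀ g h M N, R g M → R h N → R (g * h) (M * N) := by
    intro g h M N hg hh
    constructor
    · rw [map_mul, ← mulVec_mulVec, hh.1, mulVec_add, mulVec_smul, mulVec_smul, hg.1, hg.2,
        SLTwoSub.mul_entries, SLTwoSub.mul_entries]
      module
    · rw [map_mul, ← mulVec_mulVec, hh.2, mulVec_add, mulVec_smul, mulVec_smul, hg.1, hg.2,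
        SLTwoSub.mul_entries, SLTwoSub.mul_entries]
      module
  let Ma : Matrix.SpecialLinearGroup (Fin 2) k := ⟨!![1, μ; 0, 1], by simp [det_fin_two]⟩
  let Mb : Matrix.SpecialLinearGroup (Fin 2) k := ⟨!![1, 0; 1, 1], by simp [det_fin_two]⟩
  have hRa : R a Ma := by
    have e : ρ a = 1 + A := by rw [hAdef]; abel
    constructor
    · show ρ a *ᵥ v = (1 : k) • v + (0 : k) • w
      rw [e, add_mulVec, one_mulVec, hAv]; simp
    · show ρ a *ᵥ w = μ • v + (1 : k) • w
      rw [e, add_mulVec, one_mulVec, he, one_smul, add_comm]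
  have hRb : R b Mb := by
    have e : ρ b = 1 + B := by rw [hBdef]; abel
    constructor
    · show ρ b *ᵥ v = (1 : k) • v + (1 : k) • w
      rw [e, add_mulVec, one_mulVec, ← hwdef]; simp
    · show ρ b *ᵥ w = (0 : k) • v + (1 : k) • w
      rw [e, add_mulVec, one_mulVec, hBw]; simp
  have hall : ∀ g : K, ∃ M, R g M := by
    intro g
    have hg : g ∈ Subgroup.closure {a, b} := hgen.symm ▸ Subgroup.mem_top g
    induction hg using Subgroup.closure_induction with
    | mem x hx =>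
      rcases hx with rfl | hx
      · exact ⟨Ma, hRa⟩
      · rw [Set.mem_singleton_iff.mp hx]
        exact ⟨Mb, hRb⟩
    | one => exact ⟨1, hR1⟩
    | mul x y _ _ hx hy =>
      obtain ⟨M, hM⟩ := hx
      obtain ⟨N, hN⟩ := hy
      exact ⟨M * N, hRmul _ _ _ _ hM hN⟩
    | inv x _ hx =>
      obtain ⟨M, hM⟩ := hx
      obtain ⟨m, hm⟩ : ∃ m : ℕ, x⁻¹ = x ^ m := by
        refine ⟨orderOf x - 1, inv_eq_of_mul_eq_one_right ?_⟩
        rw [← pow_succ', Nat.sub_add_cancel (orderOf_pos x), pow_orderOf_eq_one]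
      rw [hm]
      clear hm
      induction m with
      | zero => exact ⟨1, by rw [pow_zero]; exact hR1⟩
      | succ m ih =>
        obtain ⟨N, hN⟩ := ih
        exact ⟨N * M, by rw [pow_succ]; exact hRmul _ _ _ _ hN hM⟩
  choose f hf using hall
  refine ⟨μ, MonoidHom.mk' f (fun g h => huniq _ _ _ (hf _) (hRmul _ _ _ _ (hf g) (hf h))), v, w, hμ, ?_, ?_,
    hind, hf⟩
  · exact congrArg Subtype.val (huniq a _ Ma (hf a) hRa)
  · exact congrArg Subtype.val (huniq b _ Mb (hf b) hRb)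

/-- Two quadratic generators: the image on the plane has several Sylow `p`-subgroups. -/
theorem exists_many [IsAlgClosed k] (ρ : K →* Matrix (Fin n) (Fin n) k)
    (hρ : Function.Injective ρ) {a b : K} (hgen : Subgroup.closure {a, b} = ⊤)
    (ha : (ρ a - 1) * (ρ a - 1) = 0) (hb : (ρ b - 1) * (ρ b - 1) = 0) (hnp : ¬ IsPGroup p K) :
    ∃ (ψ : K →* Matrix.SpecialLinearGroup (Fin 2) k) (v w : Fin n → k),
      Finite ψ.range ∧ 1 < Nat.card (Sylow p ψ.range) ∧
      (∀ s t : k, s • v + t • w = 0 → s = 0 ∧ t = 0) ∧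
      ∀ g, ρ g *ᵥ v = (ψ g).1 0 0 • v + (ψ g).1 1 0 • w ∧
        ρ g *ᵥ w = (ψ g).1 0 1 • v + (ψ g).1 1 1 • w := by
  obtain ⟨μ, ψ, v, w, hμ, hψa, hψb, hind, hact⟩ := exists_planeHom ρ hgen ha hb fun hnil =>
    hnp (isPGroup_of_nilpotent ρ hρ hgen ha hb hnil)
  haveI : Finite ψ.range := Finite.of_surjective _ ψ.rangeRestrict_surjective
  have hmany : 1 < Nat.card (Sylow p ψ.range) := by
    by_contra hlt
    haveI : Subsingleton (Sylow p ψ.range) :=
      Finite.card_le_one_iff_subsingleton.mp (not_lt.mp hlt)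
    obtain ⟨P⟩ : Nonempty (Sylow p ψ.range) := inferInstance
    have hmem : ∀ y : ψ.range, SLTwoSub.tr (y : Matrix.SpecialLinearGroup (Fin 2) k) = 2 →
        y ∈ (P : Subgroup ψ.range) := by
      intro y hy
      have h1 : y ^ p = 1 := Subtype.ext (by
        rw [SubgroupClass.coe_pow]; exact SLTwoSub.pow_prime_of_tr hy)
      have hz : IsPGroup p (Subgroup.zpowers y) := by
        rintro ⟨z, hz⟩
        obtain ⟨i, rfl⟩ := Subgroup.mem_zpowers_iff.mp hz
        refine ⟨1, Subtype.ext ?_⟩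
        show (y ^ i) ^ p ^ 1 = 1
        rw [pow_one, ← zpow_natCast, ← _root_.zpow_mul, mul_comm, _root_.zpow_mul, zpow_natCast,
          h1, _root_.one_zpow]
      obtain ⟨Q, hQ⟩ := hz.exists_le_sylow
      exact Subsingleton.elim P Q ▸ hQ (Subgroup.mem_zpowers y)
    have hua := hmem ⟨ψ a, a, rfl⟩ (by unfold SLTwoSub.tr; rw [hψa]; simp; norm_num)
    have hub := hmem ⟨ψ b, b, rfl⟩ (by unfold SLTwoSub.tr; rw [hψb]; simp; norm_num)
    obtain ⟨j, hj⟩ := P.2 ⟨_, (P : Subgroup ψ.range).mul_mem hua hub⟩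
    have h2 := SLTwoSub.tr_of_pow (p := p) (k := j)
      (congrArg (fun z : (P : Subgroup ψ.range) => ((z : ψ.range) : Matrix.SpecialLinearGroup (Fin 2) k)) hj)
    have e : SLTwoSub.tr (ψ a * ψ b) = 2 + μ := by
      unfold SLTwoSub.tr
      rw [SLTwoSub.mul_entries, SLTwoSub.mul_entries, hψa, hψb]
      simp; ring
    exact hμ (by
      have h3 : SLTwoSub.tr (ψ a * ψ b) = 2 := h2
      rw [e] at h3
      linear_combination h3)
  exact ⟨ψ, v, w, inferInstance, hmany, hind, hact⟩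

/-- **Two quadratic generators**: a `p`-group, or a section `SL₂(p)`. -/
theorem exists_surj_sl2 [IsAlgClosed k] (hp : p ≠ 2) (ρ : K →* Matrix (Fin n) (Fin n) k)
    (hρ : Function.Injective ρ) {a b : K} (hgen : Subgroup.closure {a, b} = ⊤)
    (ha : (ρ a - 1) * (ρ a - 1) = 0) (hb : (ρ b - 1) * (ρ b - 1) = 0) (hnp : ¬ IsPGroup p K) :
    ∃ (K' : Subgroup K) (f : K' →* Matrix.SpecialLinearGroup (Fin 2) (ZMod p)),
      Function.Surjective f := by
  obtain ⟨ψ, -, -, hfin, hmany, -, -⟩ := exists_many ρ hρ hgen ha hb hnp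
  obtain ⟨φ, hφ, hr⟩ := SLTwoSub.exists_copy hp _ ψ.range rfl hmany
  let e := MonoidHom.ofInjective hφ
  refine ⟨φ.range.comap ψ, e.symm.toMonoidHom.comp
    ((ψ.comp (φ.range.comap ψ).subtype).codRestrict φ.range fun x => x.2), ?_⟩
  intro y
  obtain ⟨x, hx⟩ := hr (e y).2
  refine ⟨⟨x, show ψ x ∈ φ.range from hx ▸ (e y).2⟩, ?_⟩
  show e.symm _ = y
  rw [MulEquiv.symm_apply_eq]
  exact Subtype.ext hx

/-- A plane on which a subgroup induces the natural action of `SL₂(p)`. -/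
theorem exists_plane [IsAlgClosed k] [Algebra (ZMod p) k] (hp : p ≠ 2)
    (ρ : K →* Matrix (Fin n) (Fin n) k)
    (hρ : Function.Injective ρ) {a b : K} (hgen : Subgroup.closure {a, b} = ⊤)
    (ha : (ρ a - 1) * (ρ a - 1) = 0) (hb : (ρ b - 1) * (ρ b - 1) = 0) (hnp : ¬ IsPGroup p K) :
    ∃ e₁ e₂ : Fin n → k, (∀ s t : k, s • e₁ + t • e₂ = 0 → s = 0 ∧ t = 0) ∧
      ∀ M : Matrix.SpecialLinearGroup (Fin 2) (ZMod p), ∃ g : K,
        ρ g *ᵥ e₁ = algebraMap (ZMod p) k (M.1 0 0) • e₁ + algebraMap (ZMod p) k (M.1 1 0) • e₂ ∧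
        ρ g *ᵥ e₂ = algebraMap (ZMod p) k (M.1 0 1) • e₁ + algebraMap (ZMod p) k (M.1 1 1) • e₂ := by
  obtain ⟨ψ, v, w, hfin, hmany, hind, hact⟩ := exists_many ρ hρ hgen ha hb hnp
  obtain ⟨B, hB, hconj⟩ := SLTwoSub.exists_copy_basis hp _ ψ.range rfl hmany
  refine ⟨B 0 0 • v + B 1 0 • w, B 0 1 • v + B 1 1 • w, fun s t h => ?_, fun M => ?_⟩
  · obtain ⟨h1, h2⟩ := hind (s * B 0 0 + t * B 0 1) (s * B 1 0 + t * B 1 1) (by rw [← h]; module)
    rw [det_fin_two, isUnit_iff_ne_zero] at hB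
    constructor
    · exact (mul_eq_zero.mp (show s * (B 0 0 * B 1 1 - B 0 1 * B 1 0) = 0 by
        linear_combination B 1 1 * h1 - B 0 1 * h2)).resolve_right hB
    · exact (mul_eq_zero.mp (show t * (B 0 0 * B 1 1 - B 0 1 * B 1 0) = 0 by
        linear_combination B 0 0 * h2 - B 1 0 * h1)).resolve_right hB
  obtain ⟨X, ⟨g, rfl⟩, hX⟩ := hconj M
  obtain ⟨hgv, hgw⟩ := hact g
  have hcast : ∀ x : ZMod p, (ZMod.castHom dvd_rfl k : ZMod p →+* k) x = algebraMap (ZMod p) k x :=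
    fun x => congrArg (fun f : ZMod p →+* k => f x) (Subsingleton.elim _ _)
  have he : ∀ i j, (ψ g).1 i 0 * B 0 j + (ψ g).1 i 1 * B 1 j =
      B i 0 * algebraMap (ZMod p) k (M.1 0 j) + B i 1 * algebraMap (ZMod p) k (M.1 1 j) := fun i j => by
    have := congrFun (congrFun hX i) j
    simp only [Matrix.mul_apply, Fin.sum_univ_two, Matrix.map_apply, hcast] at this
    exact this
  have e00 := he 0 0
  have e10 := he 1 0
  have e01 := he 0 1
  have e11 := he 1 1
  refine ⟨g, ?_, ?_⟩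
  · rw [mulVec_add, mulVec_smul, mulVec_smul, hgv, hgw]
    match_scalars
    · linear_combination e00
    · linear_combination e10
  · rw [mulVec_add, mulVec_smul, mulVec_smul, hgv, hgw]
    match_scalars
    · linear_combination e01
    · linear_combination e11

end Cfsg.Lib.QuadPair
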