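import Cfsg.Agent.Quadratic.SLTwoCount
import Mathlib.GroupTheory.Perm.Cycle.Type
import Mathlib.GroupTheory.IndexNormal

/-!
Dickson's lemma: for odd `p`, a finite subgroup of `SL₂(F)` in characteristic `p` with more than
one Sylow `p`-subgroup contains a copy of `SL₂(p)`.
-/

set_option autoImplicit false

namespace Cfsg.Lib.SLTwoSub

open Matrix

variable {F : Type*} [Field F] {p : ℕ} [Fact p.Prime] [CharP F p]

local notation "SL2" => Matrix.SpecialLinearGroup (Fin 2) F

namespace Multi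

variable {H : Subgroup (Matrix.SpecialLinearGroup (Fin 2) F)} (M : Multi H p)
include M

theorem card_scalars_le : Nat.card (scalars H) ≤ 2 := by
  classical
  refine le_trans (Nat.card_le_card_of_injective
    (fun z : scalars H => decide (((z : H) : SL2).1 0 0 = 1)) ?_) (by simp)
  intro a b e
  have ha : IsScal ((a : H) : SL2) := a.2
  have hb : IsScal ((b : H) : SL2) := b.2
  refine Subtype.ext (Subtype.ext (ha.ext hb ?_))
  simp only [decide_eq_decide] at e
  rcases ha.eq_or with h | h <;> rcases hb.eq_or with h' | h'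
  · rw [h, h']
  · rw [h, e.mp h]
  · rw [e.mpr h', h']
  · rw [h, h']

theorem card_normalizer_cent_le {x : H} (hx : Semi x) :
    Nat.card (Subgroup.normalizer ((cent x : Subgroup H) : Set H)) ≤ 2 * Nat.card (cent x) := by
  haveI := M.fin
  classical
  set K := Subgroup.normalizer ((cent x : Subgroup H) : Set H)
  have htors : ∀ n ∈ K, n * x * n⁻¹ = x ∨ n * x * n⁻¹ = x⁻¹ := by
    intro n hn
    have h := M.mem_cent.mp ((Subgroup.mem_normalizer_iff.mp hn x).mp (M.mem_cent.mpr rfl))
    rcases eq_or_inv_of_comm (two_ne_zero' (F := F) M.odd) hx.1 hx.2 (tr_conj (n : SL2) x)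
      (congrArg Subtype.val h) with e | e
    · exact Or.inl (Subtype.ext e)
    · exact Or.inr (Subtype.ext e)
  obtain ⟨n₀, hn₀⟩ : ∃ n₀ : H, ∀ n ∈ K, n * x * n⁻¹ = x⁻¹ → n₀⁻¹ * n ∈ cent x := by
    by_cases h0 : ∃ n ∈ K, n * x * n⁻¹ = x⁻¹
    · obtain ⟨n₀, -, e₀⟩ := h0
      refine ⟨n₀, fun n _ e => M.mem_cent.mpr ?_⟩
      calc n₀⁻¹ * n * x = n₀⁻¹ * (n * x * n⁻¹) * n := by group
        _ = x * (n₀⁻¹ * n) := by rw [e, ← e₀]; group
    · exact ⟨1, fun n hn e => absurd ⟨n, hn, e⟩ h0⟩
  let f : K → Bool × cent x := fun n =>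
    if h : (n : H) * x * (n : H)⁻¹ = x then (false, ⟨n, M.mem_cent.mpr (mul_inv_eq_iff_eq_mul.mp h)⟩)
    else (true, ⟨n₀⁻¹ * n, hn₀ n n.2 ((htors n n.2).resolve_left h)⟩)
  refine le_trans (Nat.card_le_card_of_injective f ?_)
    (le_of_eq ((Nat.card_prod _ _).trans (by simp)))
  intro a b e
  simp only [f] at e
  split_ifs at e <;> simp only [Prod.mk.injEq, Subtype.mk.injEq, Bool.false_eq_true,
    Bool.true_eq_false, false_and, true_and] at e
  · exact Subtype.ext e
  · exact Subtype.ext (mul_left_cancel e)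

/-- What the counting gives: `q + 1` Sylow subgroups, or order `120`. -/
theorem count (P : Sylow p H) :
    Nat.card (Sylow p H) = Nat.card (P : Subgroup H) + 1 ∨
      Nat.card H = 120 ∧ Nat.card (P : Subgroup H) = 3 ∧ Nat.card (Sylow p H) = 10 ∧
      Nat.card (scalars H) = 2 ∧
      Nat.card {x : {x : H // Semi x} // ∃ Q : Sylow p H, x.1 • Q = Q} = 30 ∧
      (∀ x : H, Semi x → (∃ Q : Sylow p H, x • Q = Q) → Nat.card (cent x) = 4) ∧
      (∀ x : H, Semi x → (∀ Q : Sylow p H, x • Q ≠ Q) → Nat.card (cent x) = 10) := by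
  haveI := M.fin
  classical
  have hr : 1 < Nat.card (Sylow p H) := M.many
  set r := Nat.card (Sylow p H) with hrdef
  set z := Nat.card (scalars H) with hzdef
  set q := Nat.card (P : Subgroup H) with hqdef
  set s := Nat.card (SemiAt P) with hsdef
  set g := Nat.card H with hgdef
  have hz : 0 < z := M.card_pos_scalars
  have hq : 3 ≤ q := M.three_le_card P
  -- the order of the group
  have hstab : Nat.card (MulAction.stabilizer H P) = z * q + s := M.card_stabilizer P
  have hg : g = r * (z * q + s) := by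
    rw [← hstab, hgdef, ← Subgroup.card_mul_index (MulAction.stabilizer H P),
      MulAction.index_stabilizer_of_transitive, mul_comm]
  -- the elements
  set S1 := Nat.card {x : {x : H // Semi x} // ∃ Q : Sylow p H, x.1 • Q = Q} with hS1
  let T0 : Set H := {y | Semi y ∧ ∀ Q : Sylow p H, y • Q ≠ Q}
  set n₀ := Nat.card T0 with hn₀
  have hsemi : Nat.card {x : H // Semi x} = S1 + n₀ := by
    rw [← Nat.card_congr (Equiv.sumCompl fun x : {x : H // Semi x} => ∃ Q : Sylow p H, x.1 • Q = Q),
      Nat.card_sum]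
    congr 1
    exact Nat.card_congr ⟨fun a => ⟨a.1.1, a.1.2, fun Q h => a.2 ⟨Q, h⟩⟩,
      fun b => ⟨⟨b.1, b.2.1⟩, fun ⟨Q, h⟩ => b.2.2 Q h⟩, fun _ => rfl, fun _ => rfl⟩
  have hsig : Nat.card (Σ Q : Sylow p H, scalars H × {u : (Q : Subgroup H) // u ≠ 1}) + r * z =
      r * z * q := by
    haveI := Fintype.ofFinite (Sylow p H)
    have h1 : ∀ Q : Sylow p H, Nat.card (scalars H × {u : (Q : Subgroup H) // u ≠ 1}) + z = z * q := by
      intro Q
      have h2 : Nat.card {u : (Q : Subgroup H) // u ≠ 1} + 1 = q := by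
        rw [hqdef, M.card_sylow_eq P Q,
          ← Nat.card_congr (Equiv.sumCompl fun u : (Q : Subgroup H) => u = 1), Nat.card_sum,
          add_comm]
        congr 1
        exact (Nat.card_unique).symm
      rw [Nat.card_prod, ← h2, mul_add, mul_one]
    rw [Nat.card_sigma, mul_assoc,
      show r * z = ∑ _Q : Sylow p H, z by rw [Finset.sum_const, Finset.card_univ, hrdef,
        Nat.card_eq_fintype_card, smul_eq_mul],
      ← Finset.sum_add_distrib, Finset.sum_congr rfl fun Q _ => h1 Q, Finset.sum_const,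
      Finset.card_univ, hrdef, Nat.card_eq_fintype_card, smul_eq_mul]
  have htotal : g + r * z = z + r * z * q + S1 + n₀ := by
    rw [hgdef, M.card_group, hsemi, ← hsig]
    ring
  obtain ⟨c, hc12, hc⟩ := M.exists_fixed_count
  have hrs : r * s = c * S1 := M.sum_fixed hc P
  -- the torus at `P`
  obtain ⟨e, he1, hse, heq1, heat⟩ : ∃ e, 1 ≤ e ∧ z * q + s = q * z * e ∧ e + 1 ≤ q ∧
      ∀ x : H, Semi x → x • P = P → Nat.card (cent x) = z * e := by
    rcases Nat.eq_zero_or_pos s with hs | hs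
    · refine ⟨1, le_rfl, by rw [hs]; ring, by omega, fun x hx hP => ?_⟩
      have : 0 < s := Nat.card_pos_iff.mpr ⟨⟨⟨x, hx, hP⟩⟩, inferInstance⟩
      omega
    · obtain ⟨⟨⟨x, hx, hP⟩⟩, -⟩ := Nat.card_pos_iff.mp hs
      obtain ⟨e, he⟩ : z ∣ Nat.card (cent x) := Subgroup.card_dvd_of_le (M.scalars_le_cent x)
      refine ⟨e, Nat.pos_of_ne_zero fun h => ?_, ?_, ?_, fun y hy hyP => ?_⟩
      · rw [h, mul_zero] at he; exact absurd he (Nat.card_pos).ne'
      · rw [← hstab, (M.stabilizer_structure hx hP).1, he, mul_assoc]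
      · -- the torus moves a nontrivial element of `P` freely
        obtain ⟨u₀, hu₀, hu₁⟩ := M.exists_mem_ne P
        have hfix : ∀ a : cent x, (a : H) * u₀ * (a : H)⁻¹ ∈ (P : Subgroup H) := fun a =>
          (Subgroup.mem_normalizer_iff.mp (Sylow.smul_eq_iff_mem_normalizer.mp
            (M.smul_of_comm (not_scal_of_semi hx) (M.mem_cent.mp a.2) hP)) u₀).mp hu₀
        let f : cent x → {u : (P : Subgroup H) // u ≠ 1} := fun a => ⟨⟨_, hfix a⟩, fun h => hu₁ (by
          simpa using congrArg Subtype.val h)⟩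
        let sec := fun w : Set.range f => w.2.choose
        let F' : cent x → Set.range f × scalars H := fun a => (⟨f a, a, rfl⟩, ⟨((sec ⟨f a, a, rfl⟩ : cent x) : H)⁻¹ * a, by
          have hsec : f (sec ⟨f a, a, rfl⟩) = f a := (⟨f a, a, rfl⟩ : Set.range f).2.choose_spec
          have h1 := congrArg (fun w : {u : (P : Subgroup H) // u ≠ 1} => ((w.1 : H))) hsec
          simp only [f] at h1
          set b : H := ((sec ⟨f a, a, rfl⟩ : cent x) : H)
          have hcomm : (b⁻¹ * a) * u₀ = u₀ * (b⁻¹ * a) := by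
            calc b⁻¹ * a * u₀ = b⁻¹ * ((a : H) * u₀ * (a : H)⁻¹) * a := by group
              _ = u₀ * (b⁻¹ * a) := by rw [← h1]; group
          show IsScal ((b⁻¹ * a : H) : SL2)
          by_contra hns
          have hmem : b⁻¹ * (a : H) ∈ cent x := mul_mem (inv_mem (sec ⟨f a, a, rfl⟩).2) a.2
          have hsm := semi_of_comm hx hns (M.mem_cent.mp hmem)
          exact (tr_sq_of_comm (M.not_scal_of_mem hu₀ hu₁) (M.tr_of_mem hu₀)
            (congrArg Subtype.val hcomm)).elim hsm.1 hsm.2⟩)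
        have hF : Function.Injective F' := fun a b h => by
          simp only [F', Prod.mk.injEq, Subtype.mk.injEq] at h
          obtain ⟨h1, h2⟩ := h
          have : (⟨f a, a, rfl⟩ : Set.range f) = ⟨f b, b, rfl⟩ := h1
          rw [this] at h2
          exact Subtype.ext (mul_left_cancel h2)
        have h3 := Nat.card_le_card_of_injective F' hF
        rw [Nat.card_prod, he, ← hzdef, mul_comm z e] at h3
        have h4 : Nat.card (Set.range f) ≤ Nat.card {u : (P : Subgroup H) // u ≠ 1} :=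
          Nat.card_le_card_of_injective Subtype.val Subtype.val_injective
        have h5 : Nat.card {u : (P : Subgroup H) // u ≠ 1} < q :=
          Set.ncard_lt_ncard (s := {u : (P : Subgroup H) | u ≠ 1}) (t := Set.univ)
            ⟨Set.subset_univ _, fun h => (h (Set.mem_univ 1)) rfl⟩ |>.trans_le (by rw [Set.ncard_univ])
        have h6 := Nat.le_of_mul_le_mul_right h3 hz
        omega
      · have := (M.stabilizer_structure hy hyP).1
        rw [(M.stabilizer_structure hx hP).1] at this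
        rw [← Nat.eq_of_mul_eq_mul_left (by omega) this, he]
  have hg' : g = r * z * q * e := by rw [hg, hse]; ring
  -- derangements
  have hbig : 2 * n₀ + 2 * z + c * 0 + r * z * q = r * z * q * e + 2 * r * z ∧ c * s = 2 * s := by
    rcases Nat.eq_zero_or_pos s with hs | hs
    · have hS : S1 = 0 := by
        rcases hc12 with h | h <;> rw [h, hs, mul_zero] at hrs <;> omega
      have he' : e = 1 := by
        rw [hs, add_zero] at hse
        nlinarith
      subst he'
      rw [hS] at htotal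
      rw [mul_one] at hg' ⊢
      refine ⟨?_, by rw [hs]; ring⟩
      nlinarith
    rcases hc12 with hc1 | hc2
    · -- one fixed point is impossible
      exfalso
      rw [hc1, one_mul] at hrs
      have hn : n₀ + z = r * z := by nlinarith
      have he2 : 2 ≤ e := by
        by_contra hlt
        have : e = 1 := by omega
        subst this
        nlinarith
      obtain ⟨⟨x, hx⟩⟩ : Nonempty T0 := (Nat.card_pos_iff.mp (by nlinarith : 0 < n₀)).1
      obtain ⟨U, k, hk, hU, hUS, -, -, -, -⟩ := M.exists_conj_count hx.1 hx.2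
      have hle : Nat.card U ≤ n₀ := Nat.card_mono (Set.toFinite T0) hUS
      obtain ⟨d, hd⟩ : z ∣ Nat.card (cent x) := Subgroup.card_dvd_of_le (M.scalars_le_cent x)
      have hd2 : 2 ≤ d := by
        by_contra hlt
        have : scalars H = cent x := Subgroup.eq_of_le_of_card_ge (M.scalars_le_cent x) (by
          rw [hd]; exact le_trans (Nat.mul_le_mul_left z (by omega : d ≤ 1)) (by rw [mul_one]))
        exact not_scal_of_semi hx.1 (this.ge (M.mem_cent.mpr rfl))
      rw [hd] at hk hU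
      rw [← hgdef, ← hzdef] at hU
      have hk2 : k * Nat.card U ≤ 2 * (z * d) * n₀ := by
        rcases hk with rfl | rfl <;> nlinarith
      have h4n : g ≤ 4 * n₀ := by
        refine Nat.le_of_mul_le_mul_left (show z * d * g ≤ z * d * (4 * n₀) from ?_) (Nat.mul_pos hz (by omega))
        have : g * z * 2 ≤ g * z * d := Nat.mul_le_mul_left _ hd2
        nlinarith
      have : r * z * 6 ≤ g := by
        rw [hg', mul_assoc (r * z)]
        exact Nat.mul_le_mul_left _ (Nat.mul_le_mul hq he2)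
      omega
    · refine ⟨?_, by rw [hc2]⟩
      rw [hc2] at hrs
      nlinarith
  obtain ⟨hbig, hcs⟩ := hbig
  rw [mul_zero, add_zero] at hbig
  have hn₀pos : 0 < n₀ := by nlinarith
  obtain ⟨⟨x, hx⟩⟩ : Nonempty T0 := (Nat.card_pos_iff.mp hn₀pos).1
  obtain ⟨U, k, hk, hU, hUS, hUc, -, hUdef, hdisj⟩ := M.exists_conj_count hx.1 hx.2
  have hhalf : 2 * n₀ < g := by nlinarith
  -- each union is at least a quarter of the group
  have hquart : ∀ y ∈ T0, ∀ (U : Set H) (k : ℕ), (k = Nat.card (cent y) ∨ k = 2 * Nat.card (cent y)) →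
      k * Nat.card U + g * z = g * Nat.card (cent y) →
      g ≤ 4 * Nat.card U ∧ (k = Nat.card (cent y) → g ≤ 2 * Nat.card U) := by
    intro y hy U k hk hU
    obtain ⟨d, hd⟩ : z ∣ Nat.card (cent y) := Subgroup.card_dvd_of_le (M.scalars_le_cent y)
    have hd2 : 2 ≤ d := by
      by_contra hlt
      have : scalars H = cent y := Subgroup.eq_of_le_of_card_ge (M.scalars_le_cent y) (by
        rw [hd]; exact le_trans (Nat.mul_le_mul_left z (by omega : d ≤ 1)) (by rw [mul_one]))
      exact not_scal_of_semi hy.1 (this.ge (M.mem_cent.mpr rfl))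
    rw [hd] at hk hU ⊢
    have hgd : g * z * 2 ≤ g * z * d := Nat.mul_le_mul_left _ hd2
    constructor
    · refine Nat.le_of_mul_le_mul_left (show z * d * g ≤ z * d * (4 * Nat.card U) from ?_) (Nat.mul_pos hz (by omega))
      rcases hk with rfl | rfl <;> nlinarith
    · rintro rfl
      refine Nat.le_of_mul_le_mul_left (show z * d * g ≤ z * d * (2 * Nat.card U) from ?_) (Nat.mul_pos hz (by omega))
      nlinarith
  have hUle : Nat.card U ≤ n₀ := Nat.card_mono (Set.toFinite T0) hUS
  have hk2 : k = 2 * Nat.card (cent x) := hk.resolve_left fun h => by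
    have := (hquart x hx U k hk hU).2 h
    omega
  have hUeq : U = T0 := by
    refine Set.Subset.antisymm hUS fun x' hx' => ?_
    by_contra hnot
    obtain ⟨U', k', hk', hU', hUS', -, -, hUdef', -⟩ := M.exists_conj_count hx'.1 hx'.2
    have hd : Disjoint U U' := Set.disjoint_left.mpr fun y hy hy' => by
      obtain ⟨h, a, ha, hans, rfl⟩ := hUdef' y hy'
      exact hdisj x' hx'.1 hnot h a ha hans hy
    have h1 := (hquart x hx U k hk hU).1
    have h2 := (hquart x' hx' U' k' hk' hU').1
    have h3 : Nat.card (U ∪ U' : Set H) ≤ n₀ :=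
      Nat.card_mono (Set.toFinite T0) (Set.union_subset hUS hUS')
    rw [Nat.card_coe_set_eq, Set.ncard_union_eq hd] at h3
    rw [Nat.card_coe_set_eq] at h1 h2
    omega
  obtain ⟨d, hd⟩ : z ∣ Nat.card (cent x) := Subgroup.card_dvd_of_le (M.scalars_le_cent x)
  rw [hUeq, hk2, hd, ← hn₀, ← hgdef, ← hzdef] at hU
  have hU2 : 2 * d * n₀ + g = g * d := Nat.eq_of_mul_eq_mul_left hz (by nlinarith)
  have hkey : r * q * e + 2 * d * r = d * r * q + 2 * d := by
    refine Nat.eq_of_mul_eq_mul_left hz ?_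
    nlinarith
  -- the torus acts freely
  have hdr : d ∣ r := by
    have h := dvd_card_of_stabilizer ((scalars H).subgroupOf (cent x))
      (X := Sylow p H) (fun Q => by
        ext a
        rw [MulAction.mem_stabilizer_iff, Subgroup.mem_subgroupOf]
        show (a : H) • Q = Q ↔ _
        refine ⟨fun h => ?_, fun h => M.smul_of_scal h Q⟩
        by_contra hns
        exact hx.2 Q ((M.smul_iff_of_comm hx.1 hns a.2 Q).mp h))
    have h2 : z * ((scalars H).subgroupOf (cent x)).index = z * d := by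
      rw [← hd, ← Subgroup.card_mul_index ((scalars H).subgroupOf (cent x)), hzdef,
        Nat.card_congr (Subgroup.subgroupOfEquivOfLe (M.scalars_le_cent x)).toEquiv]
    rwa [Nat.eq_of_mul_eq_mul_left hz h2] at h
  have hqr : ∃ k, r = 1 + q * k := by
    letI : MulAction (P : Subgroup H) {Q : Sylow p H // Q ≠ P} :=
      { smul := fun u Q => ⟨(u : H) • Q.1, fun h => Q.2 (by
          have h2 := congrArg ((u : H)⁻¹ • ·) h
          simp only [inv_smul_smul] at h2
          rw [h2, M.smul_self_mem (inv_mem u.2)])⟩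
        one_smul := fun Q => Subtype.ext (one_smul H Q.1)
        mul_smul := fun u w Q => Subtype.ext (mul_smul (u : H) (w : H) Q.1) }
    have h := dvd_card_of_stabilizer (⊥ : Subgroup (P : Subgroup H))
      (X := {Q : Sylow p H // Q ≠ P}) (fun Q => by
        rw [Subgroup.eq_bot_iff_forall]
        intro u hu
        by_contra h1
        exact Q.2 (M.eq_of_unipotent u.2 (fun h => h1 (Subtype.ext h)) (congrArg Subtype.val hu)))
    rw [Subgroup.index_bot] at h
    obtain ⟨k, hk⟩ := h
    refine ⟨k, ?_⟩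
    rw [hqdef, ← hk, hrdef, ← Nat.card_congr (Equiv.sumCompl fun Q : Sylow p H => Q = P),
      Nat.card_sum, Nat.card_unique]
  obtain ⟨kk, hkk⟩ := hqr
  obtain ⟨m, hm⟩ := hdr
  have hd0 : 0 < d := Nat.pos_of_ne_zero fun h => by rw [h, zero_mul] at hm; omega
  have hm1 : m * q * e + 2 * r = r * q + 2 := Nat.eq_of_mul_eq_mul_left hd0 (by
    rw [hm] at hkey ⊢; nlinarith)
  have hm2 : m ∣ 2 := by
    have h1 : m ∣ r * q + 2 := hm1 ▸ Nat.dvd_add ⟨q * e, by ring⟩ ⟨2 * d, by rw [hm]; ring⟩
    exact (Nat.dvd_add_right ⟨d * q, by rw [hm]; ring⟩).mp h1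
  have hm3 : m * e + 2 * kk = 1 + kk * q := Nat.eq_of_mul_eq_mul_left (show 0 < q by omega) (by
    rw [hkk] at hm1; nlinarith)
  have hmle : m ≤ 2 := Nat.le_of_dvd (by norm_num) hm2
  have hk1 : 1 ≤ kk := Nat.pos_of_ne_zero fun h => by rw [h, mul_zero, add_zero] at hkk; omega
  have hk3 : kk ≤ 3 := by
    by_contra hlt
    nlinarith
  interval_cases kk
  · left; omega
  · exfalso
    interval_cases m <;> omega
  · right
    have hq3 : q = 3 := by
      have : m * e ≤ 2 * e := Nat.mul_le_mul_right e hmle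
      omega
    have hme : m = 2 ∧ e = 2 := by
      rw [hq3] at hm3 heq1
      interval_cases m <;> omega
    obtain ⟨rfl, rfl⟩ := hme
    have hr10 : r = 10 := by rw [hkk, hq3]
    have hz2 : z = 2 := by
      refine le_antisymm M.card_scalars_le ?_
      have h2 : 2 ∣ Nat.card H := by rw [← hgdef, hg']; exact ⟨r * z * q, by ring⟩
      obtain ⟨t, ht⟩ := exists_prime_orderOf_dvd_card' 2 h2
      have ht2 : (t : SL2) * (t : SL2) = 1 := by
        have := pow_orderOf_eq_one t
        rw [ht, pow_two] at this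
        exact congrArg Subtype.val this
      have hts : t ∈ scalars H := isScal_of_sq M.odd ht2
      by_contra hlt
      have hsub : Subsingleton (scalars H) := Finite.card_le_one_iff_subsingleton.mp (by omega)
      have : t = 1 := congrArg Subtype.val (hsub.elim (⟨t, hts⟩ : scalars H) 1)
      rw [this, orderOf_one] at ht
      omega
    have hs6 : s = 6 := by rw [hz2, hq3] at hse; omega
    have hc2 : c = 2 := by
      have := hcs; rw [hs6] at this; omega
    refine ⟨by rw [hg', hr10, hz2, hq3], hq3, hr10, hz2, ?_, fun y hy ⟨Q, hQ⟩ => ?_, fun y hy hfree => ?_⟩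
    · rw [hr10, hs6, hc2] at hrs; omega
    · obtain ⟨h, hh⟩ := MulAction.exists_smul_eq H Q P
      have h1 : (h * y * h⁻¹) • P = P := by rw [← hh, mul_smul, mul_smul, inv_smul_smul, hQ]
      have h2 := heat _ (semi_conj hy h) h1
      rw [hz2] at h2
      refine Eq.trans (Nat.card_congr ((MulAut.conj h).toEquiv.subtypeEquiv fun b => ?_)) h2
      show b ∈ cent y ↔ h * b * h⁻¹ ∈ cent (h * y * h⁻¹)
      rw [M.mem_cent, M.mem_cent]
      constructor
      · intro hb
        calc h * b * h⁻¹ * (h * y * h⁻¹) = h * (b * y) * h⁻¹ := by group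
          _ = _ := by rw [hb]; group
      · intro hb
        calc b * y = h⁻¹ * (h * b * h⁻¹ * (h * y * h⁻¹)) * h := by group
          _ = y * b := by rw [hb]; group
    · rw [hUc y (hUeq ▸ (⟨hy, hfree⟩ : y ∈ T0)), hd, hz2]
      have : d = 5 := by omega
      rw [this]

/-- The exceptional group has a proper subgroup of the same kind. -/
theorem exists_smaller (hg : Nat.card H = 120) (P : Sylow p H) (hq : Nat.card (P : Subgroup H) = 3)
    (hr : Nat.card (Sylow p H) = 10) (hz : Nat.card (scalars H) = 2)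
    (hS : Nat.card {x : {x : H // Semi x} // ∃ Q : Sylow p H, x.1 • Q = Q} = 30)
    (h4 : ∀ x : H, Semi x → (∃ Q : Sylow p H, x • Q = Q) → Nat.card (cent x) = 4)
    (h10 : ∀ x : H, Semi x → (∀ Q : Sylow p H, x • Q ≠ Q) → Nat.card (cent x) = 10) :
    ∃ N : Subgroup H, Nat.card N < Nat.card H ∧ 1 < Nat.card (Sylow p N) := by
  haveI := M.fin
  haveI : Fact (Nat.Prime 2) := ⟨Nat.prime_two⟩
  classical
  have hp3 : p = 3 := by
    obtain ⟨k, hk⟩ := IsPGroup.iff_card.mp P.2
    rw [hq] at hk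
    have hk0 : k ≠ 0 := fun h => by simp [h] at hk
    exact (Nat.prime_dvd_prime_iff_eq Fact.out Nat.prime_three).mp (hk ▸ dvd_pow_self p hk0)
  have hT : ∀ T : Sylow 2 H, Nat.card (T : Subgroup H) = 8 := by
    intro T
    obtain ⟨k, hk⟩ := IsPGroup.iff_card.mp T.2
    have h1 := Subgroup.card_mul_index (T : Subgroup H)
    rw [hg, hk] at h1
    have h2 := T.not_dvd_index
    have hk3 : k ≤ 3 := by
      by_contra hlt
      have : 2 ^ 4 ∣ 120 := h1 ▸ Dvd.dvd.mul_right (pow_dvd_pow 2 (by omega : 4 ≤ k)) _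
      omega
    interval_cases k <;> omega
  have hZT : ∀ T : Sylow 2 H, scalars H ≤ T := by
    intro T a ha
    obtain ⟨T₀, hT₀⟩ := (IsPGroup.of_card (p := 2) (n := 1) (by rw [hz, pow_one]) :
      IsPGroup 2 (scalars H)).exists_le_sylow
    obtain ⟨b, rfl⟩ := MulAction.exists_smul_eq H T₀ T
    rw [Sylow.coe_subgroup_smul, Subgroup.mem_smul_pointwise_iff_exists]
    refine ⟨a, hT₀ ha, ?_⟩
    show b * a * b⁻¹ = a
    rw [← scalars_comm ha b, mul_inv_cancel_right]
  -- the noncentral elements of the Sylow `2`-subgroups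
  have hTS : ∀ (T : Sylow 2 H) (x : H), x ∈ (T : Subgroup H) → ¬ IsScal (x : SL2) →
      Semi x ∧ ∃ Q : Sylow p H, x • Q = Q := by
    intro T x hx hns
    have h8 : x ^ 8 = 1 := by
      have := congrArg Subtype.val (pow_card_eq_one' (x := (⟨x, hx⟩ : (T : Subgroup H))))
      rw [hT] at this
      exact this
    have hs : Semi x := by
      by_contra hns'
      obtain ⟨ζ, hζ, u, hu, rfl⟩ := M.exists_scal_mul (x := x) (by unfold Semi at hns'; tauto)
      refine hns ?_
      have hu3 : u ^ 3 = 1 := Subtype.ext (by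
        rw [SubgroupClass.coe_pow, ← hp3]; exact pow_prime_of_tr hu)
      have h3 : (ζ * u) ^ 3 ∈ scalars H := by
        rw [(show Commute ζ u from scalars_comm hζ u).mul_pow, hu3, mul_one]
        exact pow_mem hζ 3
      have h9 : (ζ * u) ^ 9 = ζ * u := by
        rw [show 9 = 8 + 1 from rfl, pow_succ, h8, one_mul]
      exact h9 ▸ (show (ζ * u) ^ 9 ∈ scalars H by
        rw [show 9 = 3 * 3 from rfl, pow_mul]; exact pow_mem h3 3)
    refine ⟨hs, ?_⟩
    by_contra hne
    push Not at hne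
    have h := congrArg Subtype.val
      (pow_card_eq_one' (x := (⟨x, M.mem_cent.mpr rfl⟩ : cent x)))
    rw [h10 x hs hne] at h
    have h2 : x ^ 2 = 1 := by
      exact (pow_gcd_eq_one (m := 8) (n := 10)).mpr ⟨h8, h⟩
    exact hns (isScal_of_sq M.odd (congrArg Subtype.val ((pow_two x).symm.trans h2)))
  let S' := {x : {x : H // Semi x} // ∃ Q : Sylow p H, x.1 • Q = Q}
  have hbij : Nat.card (Σ T : Sylow 2 H, {x : (T : Subgroup H) // ¬ IsScal ((x : H) : SL2)}) =
      Nat.card S' := by
    refine Nat.card_congr (Equiv.ofBijective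
      (fun a => (⟨⟨a.2.1, (hTS a.1 a.2.1 a.2.1.2 a.2.2).1⟩, (hTS a.1 a.2.1 a.2.1.2 a.2.2).2⟩ : S'))
      ⟨?_, ?_⟩)
    · rintro ⟨T, ⟨x, hx⟩, hns⟩ ⟨T', ⟨x', hx'⟩, hns'⟩ e
      obtain rfl : x = x' := congrArg (fun a : S' => a.1.1) e
      obtain ⟨hs, hQ⟩ := hTS T x hx hns
      -- both are the normalizer of the centralizer
      have key : ∀ T : Sylow 2 H, x ∈ (T : Subgroup H) →
          (T : Subgroup H) = Subgroup.normalizer ((cent x : Subgroup H) : Set H) := by
        intro T hx
        have hord : orderOf x = 4 := by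
          have hd : orderOf x ∣ 2 ^ 2 := by
            rw [show (2 : ℕ) ^ 2 = Nat.card (cent x) by rw [h4 x hs hQ]; rfl,
              ← Subgroup.orderOf_mk x (M.mem_cent.mpr rfl : x ∈ cent x)]
            exact orderOf_dvd_natCard _
          have hnot : ¬ orderOf x ∣ 2 ^ 1 := fun h => hns (isScal_of_sq M.odd
            (congrArg Subtype.val ((pow_two x).symm.trans (orderOf_dvd_iff_pow_eq_one.mp h))))
          exact Nat.eq_prime_pow_of_dvd_least_prime_pow Nat.prime_two hnot hd
        have hzp : cent x = Subgroup.zpowers x :=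
          (Subgroup.eq_of_le_of_card_ge (Subgroup.zpowers_le.mpr (M.mem_cent.mpr rfl))
            (by rw [Nat.card_zpowers, hord, h4 x hs hQ])).symm
        have hle : cent x ≤ T := hzp.le.trans (Subgroup.zpowers_le.mpr hx)
        have hnorm : ((cent x).subgroupOf (T : Subgroup H)).Normal := by
          refine Subgroup.normal_of_index_eq_two ?_
          have := Subgroup.card_mul_index ((cent x).subgroupOf (T : Subgroup H))
          rw [Nat.card_congr (Subgroup.subgroupOfEquivOfLe hle).toEquiv, h4 x hs hQ, hT] at this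
          omega
        refine Subgroup.eq_of_le_of_card_ge ((Subgroup.normal_subgroupOf_iff_le_normalizer hle).mp hnorm) ?_
        rw [hT]
        have := M.card_normalizer_cent_le hs
        rw [h4 x hs hQ] at this
        exact this
      obtain rfl : T = T' := Sylow.ext ((key T hx).trans (key T' hx').symm)
      rfl
    · rintro ⟨⟨x, hs⟩, hQ⟩
      have hd : orderOf x ∣ 2 ^ 2 := by
        rw [show (2 : ℕ) ^ 2 = Nat.card (cent x) by rw [h4 x hs hQ]; rfl,
          ← Subgroup.orderOf_mk x (M.mem_cent.mpr rfl : x ∈ cent x)]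
        exact orderOf_dvd_natCard _
      obtain ⟨i, -, hi⟩ := (Nat.dvd_prime_pow Nat.prime_two).mp hd
      obtain ⟨T, hxT⟩ := (IsPGroup.of_card (p := 2) (n := i) (by rw [Nat.card_zpowers, hi]) :
        IsPGroup 2 (Subgroup.zpowers x)).exists_le_sylow
      exact ⟨⟨T, ⟨x, hxT (Subgroup.mem_zpowers x)⟩, not_scal_of_semi hs⟩, rfl⟩
  have hn2 : Nat.card (Sylow 2 H) = 5 := by
    haveI := Fintype.ofFinite (Sylow 2 H)
    have h6 : ∀ T : Sylow 2 H, Nat.card {x : (T : Subgroup H) // ¬ IsScal ((x : H) : SL2)} = 6 := by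
      intro T
      have h1 := Nat.card_congr (Equiv.sumCompl fun x : (T : Subgroup H) => IsScal ((x : H) : SL2))
      have h2 : Nat.card {x : (T : Subgroup H) // IsScal ((x : H) : SL2)} = 2 := by
        refine Eq.trans ?_ hz
        exact Nat.card_congr ⟨fun a => ⟨a.1.1, a.2⟩, fun b => ⟨⟨b.1, hZT T b.2⟩, b.2⟩,
          fun _ => rfl, fun _ => rfl⟩
      rw [Nat.card_sum, hT, h2] at h1
      omega
    rw [Nat.card_sigma, Finset.sum_congr rfl fun T _ => h6 T, Finset.sum_const, Finset.card_univ,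
      ← Nat.card_eq_fintype_card, smul_eq_mul] at hbij
    have : Nat.card S' = 30 := hS
    omega
  obtain ⟨T⟩ : Nonempty (Sylow 2 H) := inferInstance
  set N := Subgroup.normalizer ((T : Subgroup H) : Set H)
  have hN : Nat.card N = 24 := by
    have h1 : Nat.card N * N.index = Nat.card H := Subgroup.card_mul_index N
    have h2 : Nat.card (Sylow 2 H) = N.index := T.card_eq_index_normalizer
    rw [← h2, hn2, hg] at h1
    omega
  refine ⟨N, by omega, ?_⟩
  by_contra hlt
  haveI : Subsingleton (Sylow p N) := Finite.card_le_one_iff_subsingleton.mp (by omega)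
  obtain ⟨R⟩ : Nonempty (Sylow p N) := inferInstance
  haveI := Sylow.normal_of_subsingleton R
  have hR : Nat.card (R : Subgroup N) = 3 := by
    obtain ⟨k, hk⟩ := IsPGroup.iff_card.mp R.2
    have h1 := Subgroup.card_mul_index (R : Subgroup N)
    rw [hN, hk] at h1
    have h2 : ¬ 3 ∣ (R : Subgroup N).index := fun h => R.not_dvd_index (by
      have := hp3.symm ▸ h
      exact this)
    have h3' : p ^ k = 3 ^ k := congrArg (· ^ k) hp3
    rw [h3'] at h1
    rw [hk, h3']
    have hk1 : k ≤ 1 := by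
      by_contra hlt'
      have : 3 ^ 2 ∣ 24 := h1 ▸ Dvd.dvd.mul_right (pow_dvd_pow 3 (by omega : 2 ≤ k)) _
      omega
    interval_cases k <;> omega
  obtain ⟨Q, hQ⟩ := (R.2.map N.subtype).exists_le_sylow
  have hQe : (R : Subgroup N).map N.subtype = Q := Subgroup.eq_of_le_of_card_ge hQ (by
    rw [Subgroup.card_map_of_injective N.subtype_injective, hR, ← hq]
    exact (M.card_sylow_eq Q P).le)
  have hle : N ≤ MulAction.stabilizer H Q := by
    intro n hn
    rw [MulAction.mem_stabilizer_iff, Sylow.smul_eq_iff_mem_normalizer]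
    show n ∈ Subgroup.normalizer (((Q : Subgroup H)) : Set H)
    rw [← hQe]
    exact Subgroup.le_normalizer_map N.subtype ⟨⟨n, hn⟩, by
      rw [Subgroup.normalizer_eq_top]; exact Subgroup.mem_top _, rfl⟩
  have h12 : Nat.card (MulAction.stabilizer H Q) = 12 := by
    have h1 := Subgroup.card_mul_index (MulAction.stabilizer H Q)
    rw [MulAction.index_stabilizer_of_transitive, hr, hg] at h1
    omega
  have := Subgroup.card_le_of_le hle
  omega

/-- With `q + 1` Sylow subgroups there is a pair of opposite root elements. -/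
theorem exists_basis (h1 : ∀ P : Sylow p H, Nat.card (Sylow p H) = Nat.card (P : Subgroup H) + 1) :
    ∃ (e₁ e₂ : Fin 2 → F) (u v : H), dep e₁ e₂ ≠ 0 ∧ (u : SL2).1 *ᵥ e₁ = e₁ ∧
      (u : SL2).1 *ᵥ e₂ = e₁ + e₂ ∧ (v : SL2).1 *ᵥ e₂ = e₂ ∧ (v : SL2).1 *ᵥ e₁ = e₁ + e₂ := by
  haveI := M.fin
  classical
  have trans : ∀ (P Q R : Sylow p H), Q ≠ P → R ≠ P → ∃ u ∈ (P : Subgroup H), u • Q = R := by
    intro P Q R hQ hR
    let f : ↥(P : Subgroup H) → {Q : Sylow p H // Q ≠ P} := fun u => ⟨(u : H) • Q, fun h => hQ (by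
      have h2 := congrArg ((u : H)⁻¹ • ·) h
      simp only [inv_smul_smul] at h2
      rw [h2, M.smul_self_mem (inv_mem u.2)])⟩
    have hf : Function.Injective f := fun a b e => by
      have e' : (a : H) • Q = (b : H) • Q := congrArg Subtype.val e
      by_contra hne
      refine hQ (M.eq_of_unipotent (mul_mem (inv_mem b.2) a.2) (fun h => hne ?_)
        (by rw [mul_smul, e', inv_smul_smul]))
      exact Subtype.ext (inv_mul_eq_one.mp h).symm
    have hc : Nat.card (P : Subgroup H) = Nat.card {Q : Sylow p H // Q ≠ P} := by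
      have h2 := Nat.card_congr (Equiv.sumCompl fun Q : Sylow p H => Q = P)
      rw [Nat.card_sum, Nat.card_unique] at h2
      have := h1 P
      change 1 + Nat.card {Q : Sylow p H // Q ≠ P} = _ at h2
      omega
    obtain ⟨u, hu⟩ := (Nat.bijective_iff_injective_and_card f).mpr ⟨hf, hc⟩ |>.2 ⟨R, hR⟩
    exact ⟨u, u.2, congrArg Subtype.val hu⟩
  haveI : Nontrivial (Sylow p H) := Finite.one_lt_card_iff_nontrivial.mp M.many
  obtain ⟨P, Q, hPQ⟩ := exists_pair_ne (Sylow p H)
  obtain ⟨h, hh⟩ := MulAction.exists_smul_eq H P Q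
  have hhQ : h • Q ≠ Q := fun e => hPQ (smul_left_cancel h (hh.trans e.symm))
  obtain ⟨u', hu', hu'e⟩ := trans Q (h • Q) P hhQ hPQ
  obtain ⟨w, hwP, hwQ⟩ : ∃ w : H, w • P = Q ∧ w • Q = P :=
    ⟨u' * h, by rw [mul_smul, hh, M.smul_self_mem hu'], by rw [mul_smul, hu'e]⟩
  have hmove : ∀ (g : H) (P : Sylow p H), ∃ c : F, (g : SL2).1 *ᵥ M.vec P = c • M.vec (g • P) ∧ c ≠ 0 := by
    intro g P
    have hne : (g : SL2).1 *ᵥ M.vec P ≠ 0 := fun e => M.vec_ne P (by
      have := congrArg (((g : SL2)⁻¹).1 *ᵥ ·) e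
      simp only [mulVec_mulVec, mulVec_zero] at this
      rwa [show ((g : SL2)⁻¹).1 * (g : SL2).1 = 1 from
        congrArg Subtype.val (inv_mul_cancel (g : SL2)), one_mulVec] at this)
    obtain ⟨a, ha, ha1⟩ := M.exists_mem_ne P
    have hga : g * a * g⁻¹ ∈ ((g • P : Sylow p H) : Subgroup H) := by
      rw [Sylow.coe_subgroup_smul, Subgroup.mem_smul_pointwise_iff_exists]
      exact ⟨a, ha, rfl⟩
    have hfx : Fixes ((g * a * g⁻¹ : H) : SL2) ((g : SL2).1 *ᵥ M.vec P) := ⟨1, by
      rw [one_smul]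
      show ((g : SL2).1 * (a : SL2).1 * ((g : SL2)⁻¹).1) *ᵥ _ = _
      rw [mulVec_mulVec, Matrix.mul_assoc, show ((g : SL2)⁻¹).1 * (g : SL2).1 = 1 from
        congrArg Subtype.val (inv_mul_cancel (g : SL2)), Matrix.mul_one, ← mulVec_mulVec,
        M.mem_iff.mp ha]⟩
    obtain ⟨c, hc⟩ := exists_smul_of_dep (M.vec_ne _)
      (M.dep_vec_fix hga (fun e => ha1 (conj_eq_one_iff.mp e)) hne hfx)
    exact ⟨c, hc, fun e => hne (by rw [hc, e, zero_smul])⟩
  have hunip : ∀ a ∈ (P : Subgroup H), ∃ t : F, (a : SL2).1 *ᵥ M.vec Q = M.vec Q + t • M.vec P := by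
    intro a ha
    by_cases ha1 : a = 1
    · exact ⟨0, by subst ha1; simp⟩
    set N := (a : SL2).1 *ᵥ M.vec Q - M.vec Q with hN
    by_cases hN0 : N = 0
    · exact ⟨0, by rw [zero_smul, add_zero, ← sub_eq_zero, ← hN, hN0]⟩
    have hfx : (a : SL2).1 *ᵥ N = N := by
      have hsq := congrArg (· *ᵥ M.vec Q) (sq_sub_one_of_tr (M.tr_of_mem ha))
      simp only [pow_two, ← mulVec_mulVec, sub_mulVec, one_mulVec, zero_mulVec] at hsq
      rw [← hN] at hsq
      exact sub_eq_zero.mp hsq
    obtain ⟨t, ht⟩ := exists_smul_of_dep (M.vec_ne P)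
      (M.dep_vec_fix ha ha1 hN0 ⟨1, by rw [one_smul, hfx]⟩)
    exact ⟨t, by rw [← ht, hN, add_sub_cancel]⟩
  obtain ⟨u, hu, hu1⟩ := M.exists_mem_ne P
  obtain ⟨b, hb⟩ := hunip u hu
  have hb0 : b ≠ 0 := fun e => hPQ (M.eq_of_unipotent hu hu1
    (M.smul_iff.mpr ⟨1, by rw [hb, e, zero_smul, add_zero, one_smul]⟩)).symm
  set vP := M.vec P
  set vQ := M.vec Q
  have hdep : dep (b • vP) vQ ≠ 0 := by
    have e : dep (b • vP) vQ = b * dep vP vQ := by
      simp only [dep, Pi.smul_apply, smul_eq_mul]; ring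
    rw [e]
    exact mul_ne_zero hb0 (M.dep_ne hPQ)
  obtain ⟨c, hc, hc0⟩ := hmove w P
  obtain ⟨c', hc', hc'0⟩ := hmove w Q
  rw [hwP] at hc
  rw [hwQ] at hc'
  have huQ : u • Q ≠ Q := fun e => hPQ (M.eq_of_unipotent hu hu1 e).symm
  have hR : w • (u • Q) ≠ P := fun e => huQ (smul_left_cancel w (e.trans hwQ.symm))
  obtain ⟨u2, hu2, hu2e⟩ := trans P Q (w • (u • Q)) hPQ.symm hR
  obtain ⟨t, ht⟩ := hunip u2 hu2
  -- both images of the line of `Q` agree
  obtain ⟨k1, hk1, hk10⟩ := hmove u2 Q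
  obtain ⟨k2, hk2, hk20⟩ := hmove u Q
  obtain ⟨k3, hk3, hk30⟩ := hmove w (u • Q)
  have hline : dep (vQ + t • vP) ((b * c) • vQ + c' • vP) = 0 := by
    rw [hu2e, ht] at hk1
    rw [hb] at hk2
    have hw2 : (b * c) • vQ + c' • vP = (k2 * k3) • M.vec (w • (u • Q)) := by
      rw [← smul_smul k2, ← hk3, ← mulVec_smul, ← hk2, mulVec_add, mulVec_smul, hc, hc', smul_smul]
      abel
    rw [hw2, hk1]
    simp only [dep, Pi.smul_apply, smul_eq_mul]
    ring
  have htv : t * (b * c) = c' := by
    have e : (t * (b * c) - c') * dep vP vQ = 0 := by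
      rw [← hline]
      simp only [dep, Pi.smul_apply, Pi.add_apply, smul_eq_mul]
      ring
    exact sub_eq_zero.mp ((mul_eq_zero.mp e).resolve_right (M.dep_ne hPQ))
  refine ⟨b • vP, vQ, u, w * u2 * w⁻¹, hdep, by rw [mulVec_smul, M.mem_iff.mp hu],
    by rw [hb, add_comm], ?_, ?_⟩
  all_goals show ((w : SL2).1 * (u2 : SL2).1 * ((w : SL2)⁻¹).1) *ᵥ _ = _
  all_goals
    have hinv : ∀ y : Fin 2 → F, ((w : SL2)⁻¹).1 *ᵥ ((w : SL2).1 *ᵥ y) = y := fun y => by
      rw [mulVec_mulVec, show ((w : SL2)⁻¹).1 * (w : SL2).1 = 1 from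
        congrArg Subtype.val (inv_mul_cancel (w : SL2)), one_mulVec]
  · have e : vQ = (w : SL2).1 *ᵥ (c⁻¹ • vP) := by
      rw [mulVec_smul, hc, smul_smul, inv_mul_cancel₀ hc0, one_smul]
    conv_lhs => rw [e]
    rw [← mulVec_mulVec, ← mulVec_mulVec, hinv, mulVec_smul, M.mem_iff.mp hu2, ← e]
  · have e : b • vP = (w : SL2).1 *ᵥ ((b * c'⁻¹) • vQ) := by
      rw [mulVec_smul, hc', smul_smul, mul_assoc, inv_mul_cancel₀ hc'0, mul_one]
    conv_lhs => rw [e]
    rw [← mulVec_mulVec, ← mulVec_mulVec, hinv, mulVec_smul, ht, mulVec_smul, mulVec_add,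
      mulVec_smul, hc, hc', smul_add, smul_smul, smul_smul, smul_smul]
    congr 1 <;> first
      | rw [mul_assoc, inv_mul_cancel₀ hc'0, mul_one]
      | rw [show b * c'⁻¹ * t * c = c'⁻¹ * (t * (b * c)) by ring, htv, inv_mul_cancel₀ hc'0,
          one_smul]

end Multi

omit [CharP F p] in
/-- The two root elements generate `SL₂(p)`. -/
theorem closure_transvections (H : Subgroup (Matrix.SpecialLinearGroup (Fin 2) (ZMod p)))
    (hu : ∀ g : Matrix.SpecialLinearGroup (Fin 2) (ZMod p), g.1 = !![1, 1; 0, 1] → g ∈ H)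
    (hl : ∀ g : Matrix.SpecialLinearGroup (Fin 2) (ZMod p), g.1 = !![1, 0; 1, 1] → g ∈ H) :
    H = ⊤ := by
  let U : ZMod p → Matrix.SpecialLinearGroup (Fin 2) (ZMod p) := fun t =>
    ⟨!![1, t; 0, 1], by simp [Matrix.det_fin_two]⟩
  let L : ZMod p → Matrix.SpecialLinearGroup (Fin 2) (ZMod p) := fun t =>
    ⟨!![1, 0; t, 1], by simp [Matrix.det_fin_two]⟩
  have hU : ∀ t, U t ∈ H := by
    intro t
    obtain ⟨n, rfl⟩ := ZMod.natCast_zmod_surjective t
    induction n with
    | zero =>
      convert H.one_mem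
      exact Subtype.ext (by simp [U, Matrix.one_fin_two])
    | succ n ih =>
      convert H.mul_mem ih (hu (U 1) rfl)
      exact Subtype.ext (show (!![1, ((n + 1 : ℕ) : ZMod p); 0, 1] : Matrix (Fin 2) (Fin 2) (ZMod p)) =
          !![1, (n : ZMod p); 0, 1] * !![1, 1; 0, 1] by simp [Matrix.mul_fin_two, add_comm])
  have hL : ∀ t, L t ∈ H := by
    intro t
    obtain ⟨n, rfl⟩ := ZMod.natCast_zmod_surjective t
    induction n with
    | zero =>
      convert H.one_mem
      exact Subtype.ext (by simp [L, Matrix.one_fin_two])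
    | succ n ih =>
      convert H.mul_mem ih (hl (L 1) rfl)
      exact Subtype.ext (show (!![1, 0; ((n + 1 : ℕ) : ZMod p), 1] : Matrix (Fin 2) (Fin 2) (ZMod p)) =
          !![1, 0; (n : ZMod p), 1] * !![1, 0; 1, 1] by simp [Matrix.mul_fin_two, add_comm])
  have hgen : ∀ M : Matrix.SpecialLinearGroup (Fin 2) (ZMod p), M.1 1 0 ≠ 0 → M ∈ H := by
    intro M hc
    have e : M = U ((M.1 0 0 - 1) / M.1 1 0) * L (M.1 1 0) * U ((M.1 1 1 - 1) / M.1 1 0) := by
      have hd := det_eq M
      apply Subtype.ext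
      show M.1 = (!![1, (M.1 0 0 - 1) / M.1 1 0; 0, 1] : Matrix (Fin 2) (Fin 2) (ZMod p)) *
        !![1, 0; M.1 1 0, 1] * !![1, (M.1 1 1 - 1) / M.1 1 0; 0, 1]
      rw [Matrix.mul_fin_two, Matrix.mul_fin_two]
      ext i j
      fin_cases i <;> fin_cases j <;> simp <;> field_simp <;>
        first | linear_combination hd | linear_combination -hd | ring
    rw [e]
    exact H.mul_mem (H.mul_mem (hU _) (hL _)) (hU _)
  refine (Subgroup.eq_top_iff' H).mpr fun M => ?_
  by_cases hc : M.1 1 0 = 0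
  · have ha : M.1 0 0 ≠ 0 := fun h => by
      have hd := det_eq M
      rw [h, hc] at hd
      simp at hd
    have h2 : L 1 * M ∈ H := hgen _ (by
      show ((!![1, 0; 1, 1] : Matrix (Fin 2) (Fin 2) (ZMod p)) * M.1) 1 0 ≠ 0
      simp [Matrix.mul_apply, Fin.sum_univ_two, hc, ha])
    have h3 := H.mul_mem (H.inv_mem (hL 1)) h2
    rwa [inv_mul_cancel_left] at h3
  · exact hgen M hc

/-- **Dickson**: in a suitable basis a group with several Sylow `p`-subgroups contains `SL₂(p)`. -/
theorem exists_copy_basis (hp : p ≠ 2) (n : ℕ) : ∀ (H : Subgroup (Matrix.SpecialLinearGroup (Fin 2) F))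
    [Finite H], Nat.card H = n → 1 < Nat.card (Sylow p H) →
      ∃ B : Matrix (Fin 2) (Fin 2) F, IsUnit B.det ∧
        ∀ g : Matrix.SpecialLinearGroup (Fin 2) (ZMod p), ∃ x ∈ H,
          x.1 * B = B * g.1.map (ZMod.castHom dvd_rfl F : ZMod p →+* F) := by
  induction n using Nat.strong_induction_on with
  | _ n ih =>
  intro H _ hn hH
  have M : Multi H p := ⟨hp, inferInstance, hH⟩
  by_cases h1 : ∀ P : Sylow p H, Nat.card (Sylow p H) = Nat.card (P : Subgroup H) + 1
  · obtain ⟨e₁, e₂, u, v, hdep, hu1, hu2, hv2, hv1⟩ := M.exists_basis h1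
    let B : Matrix (Fin 2) (Fin 2) F := !![e₁ 0, e₂ 0; e₁ 1, e₂ 1]
    have hB : IsUnit B.det := by
      rw [isUnit_iff_ne_zero, Matrix.det_fin_two]
      intro e
      apply hdep
      unfold dep
      simp [B] at e
      linear_combination e
    let conjB : Matrix.SpecialLinearGroup (Fin 2) F →* Matrix.SpecialLinearGroup (Fin 2) F :=
      { toFun := fun X => ⟨B * X.1 * B⁻¹, by
          rw [det_mul, det_mul, X.2, mul_one, ← det_mul, Matrix.mul_nonsing_inv B hB, det_one]⟩
        map_one' := Subtype.ext (by simp [Matrix.mul_nonsing_inv B hB])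
        map_mul' := fun X Y => Subtype.ext (by
          show B * (X.1 * Y.1) * B⁻¹ = B * X.1 * B⁻¹ * (B * Y.1 * B⁻¹)
          simp only [Matrix.mul_assoc, Matrix.nonsing_inv_mul_cancel_left B _ hB]) }
    let φ := conjB.comp (Matrix.SpecialLinearGroup.map (ZMod.castHom dvd_rfl F : ZMod p →+* F))
    refine ⟨B, hB, ?_⟩
    have key : ∀ (x : H) (g : Matrix.SpecialLinearGroup (Fin 2) (ZMod p)),
        (x : SL2).1 * B = B * g.1.map (ZMod.castHom dvd_rfl F : ZMod p →+* F) → φ g ∈ H := by
      intro x g e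
      have : φ g = (x : SL2) := Subtype.ext (by
        show B * g.1.map _ * B⁻¹ = _
        rw [← e, Matrix.mul_assoc, Matrix.mul_nonsing_inv B hB, Matrix.mul_one])
      rw [this]
      exact x.2
    obtain ⟨u11, u12⟩ := eq_entries (c := (1 : F)) (by rw [hu1, one_smul] : (u : SL2).1 *ᵥ e₁ = (1 : F) • e₁)
    obtain ⟨v21, v22⟩ := eq_entries (c := (1 : F)) (by rw [hv2, one_smul] : (v : SL2).1 *ᵥ e₂ = (1 : F) • e₂)
    have u21 := congrFun hu2 0
    have u22 := congrFun hu2 1
    have v11 := congrFun hv1 0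
    have v12 := congrFun hv1 1
    simp only [mulVec_two, Pi.add_apply, one_mul] at u11 u12 v21 v22 u21 u22 v11 v12
    have htop := closure_transvections (H.comap φ) (fun g hg => key u g ?_) (fun g hg => key v g ?_)
    · intro g
      refine ⟨φ g, (htop.ge (Subgroup.mem_top g) : g ∈ H.comap φ), ?_⟩
      show B * g.1.map (ZMod.castHom dvd_rfl F : ZMod p →+* F) * B⁻¹ * B = _
      rw [Matrix.nonsing_inv_mul_cancel_right B _ hB]
    · rw [hg]
      ext i j
      rw [Matrix.mul_apply, Matrix.mul_apply, Fin.sum_univ_two, Fin.sum_univ_two]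
      fin_cases i <;> fin_cases j <;> simp [B] <;>
        first | assumption | linear_combination u11 | linear_combination u12 |
          linear_combination u21 | linear_combination u22
    · rw [hg]
      ext i j
      rw [Matrix.mul_apply, Matrix.mul_apply, Fin.sum_univ_two, Fin.sum_univ_two]
      fin_cases i <;> fin_cases j <;> simp [B] <;>
        first | assumption | linear_combination v21 | linear_combination v22 |
          linear_combination v11 | linear_combination v12
  · push Not at h1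
    obtain ⟨P, hP⟩ := h1
    obtain ⟨hg, hq, hr, hz, hS, h4, h10⟩ := (M.count P).resolve_left hP
    obtain ⟨N, hlt, hN⟩ := M.exists_smaller hg P hq hr hz hS h4 h10
    have e : N ≃* N.map H.subtype := Subgroup.equivMapOfInjective N _ H.subtype_injective
    haveI : Finite (N.map H.subtype) := Finite.of_equiv _ e.toEquiv
    have hN' : 1 < Nat.card (Sylow p (N.map H.subtype)) := hN.trans_le
      (Nat.card_le_card_of_injective (fun R : Sylow p N => R.mapSurjective (f := e.toMonoidHom) e.surjective)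
        fun R R' h => Sylow.ext (Subgroup.map_injective e.injective (congrArg Sylow.toSubgroup h)))
    obtain ⟨B, hB, hr'⟩ := ih _ (by
      rw [← hn, ← Nat.card_congr e.toEquiv]; exact hlt) (N.map H.subtype) rfl hN'
    exact ⟨B, hB, fun g => (hr' g).imp fun x hx => ⟨Subgroup.map_subtype_le N hx.1, hx.2⟩⟩

/-- **Dickson**: several Sylow `p`-subgroups give a copy of `SL₂(p)`. -/
theorem exists_copy (hp : p ≠ 2) (n : ℕ) (H : Subgroup (Matrix.SpecialLinearGroup (Fin 2) F))
    [Finite H] (hn : Nat.card H = n) (hH : 1 < Nat.card (Sylow p H)) :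
      ∃ φ : Matrix.SpecialLinearGroup (Fin 2) (ZMod p) →* Matrix.SpecialLinearGroup (Fin 2) F,
        Function.Injective φ ∧ φ.range ≤ H := by
  obtain ⟨B, hB, hrel⟩ := exists_copy_basis hp n H hn hH
  choose f hf hfB using hrel
  have huniq : ∀ x y : Matrix.SpecialLinearGroup (Fin 2) F, x.1 * B = y.1 * B → x = y := fun x y e =>
    Subtype.ext (by simpa [Matrix.mul_nonsing_inv_cancel_right B _ hB] using congrArg (· * B⁻¹) e)
  refine ⟨MonoidHom.mk' f fun g h => huniq _ _ ?_, fun g h e => ?_, ?_⟩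
  · show (f (g * h)).1 * B = (f g).1 * (f h).1 * B
    rw [hfB, Matrix.mul_assoc, hfB, ← Matrix.mul_assoc, hfB, Matrix.mul_assoc]
    congr 1
    exact Matrix.map_mul
  · have h1 : B * g.1.map (ZMod.castHom dvd_rfl F : ZMod p →+* F) =
        B * h.1.map (ZMod.castHom dvd_rfl F : ZMod p →+* F) := by
      rw [← hfB, ← hfB]
      exact congrArg (fun z : Matrix.SpecialLinearGroup (Fin 2) F => z.1 * B) e
    have h2 := congrArg (B⁻¹ * ·) h1
    simp only [Matrix.nonsing_inv_mul_cancel_left B _ hB] at h2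
    exact Subtype.ext (Matrix.map_injective (RingHom.injective _) h2)
  · rintro _ ⟨g, rfl⟩
    exact hf g

end Cfsg.Lib.SLTwoSub
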