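import Cfsg.Agent.Quadratic.LinearPair
import Cfsg.Agent.Quadratic.BaerSuzuki
import Cfsg.Prelude.Def_Transfer
import Cfsg.Prelude.Def_Solvable

/-!
Thompson's theorem on quadratic action in odd characteristic: a quadratically acting element
outside `O_p` gives a section `SL₂(p)`.
-/

set_option autoImplicit false

namespace Cfsg.Lib.QuadPair

open Matrix
open scoped commutatorElement

variable {G : Type*} [Group G] [Finite G] {p : ℕ} [Fact p.Prime]

omit [Finite G] in
theorem conj_mem_normalizer {V : Subgroup G} {g : G} (hg : g ∈ Subgroup.normalizer (V : Set G))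
    {v : G} (hv : v ∈ V) : g * v * g⁻¹ ∈ V :=
  (Subgroup.mem_normalizer_iff.mp hg v).mp hv

/-- A faithful matrix representation of a group acting on an elementary abelian `p`-group. -/
theorem exists_rep {V H : Subgroup G} (hV : Cfsg.IsElementaryAbelian p V)
    (hHV : H ≤ Subgroup.normalizer (V : Set G))
    (hf : H ⊓ Subgroup.centralizer (V : Set G) = ⊥) :
    ∃ (n : ℕ) (ρ : H →* Matrix (Fin n) (Fin n) (ZMod p)), Function.Injective ρ ∧
      ∀ h : H, ⁅⁅V, Subgroup.zpowers (h : G)⁆, Subgroup.zpowers (h : G)⁆ = ⊥ →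
        (ρ h - 1) * (ρ h - 1) = 0 := by
  haveI := hV.1
  letI : CommGroup V :=
    { mul_comm := fun a b => IsMulCommutative.is_comm.comm a b }
  haveI : Finite (Additive V) := inferInstanceAs (Finite V)
  have hexp : ∀ v : Additive V, p • v = 0 := fun v => by
    show Additive.ofMul ((Additive.toMul v) ^ p) = 0
    rw [show (Additive.toMul v) ^ p = 1 from Subtype.ext (hV.2 _ (Additive.toMul v).2)]
    rfl
  letI : Module (ZMod p) (Additive V) := AddCommGroup.zmodModule (n := p) hexp
  haveI : Module.Finite (ZMod p) (Additive V) := Module.Finite.of_finite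
  let act : H → (Additive V →+ Additive V) := fun h =>
    { toFun := fun v => Additive.ofMul ⟨(h : G) * (Additive.toMul v : V) * (h : G)⁻¹,
        conj_mem_normalizer (hHV h.2) (Additive.toMul v).2⟩
      map_zero' := congrArg Additive.ofMul (Subtype.ext (by
        show (h : G) * 1 * (h : G)⁻¹ = 1
        group))
      map_add' := fun v w => congrArg Additive.ofMul (Subtype.ext (by
        show (h : G) * ((Additive.toMul v : V) * (Additive.toMul w : V) : G) * (h : G)⁻¹ =
          (h : G) * (Additive.toMul v : V) * (h : G)⁻¹ * ((h : G) * (Additive.toMul w : V) * (h : G)⁻¹)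
        group)) }
  let lin : H → Module.End (ZMod p) (Additive V) := fun h =>
    { toFun := act h, map_add' := map_add (act h), map_smul' := fun c v => ZMod.map_smul (act h) c v }
  have hlin : ∀ g h : H, lin (g * h) = lin g * lin h := fun g h => by
    apply LinearMap.ext
    intro v
    rw [Module.End.mul_apply]
    apply Additive.toMul.injective
    apply Subtype.ext
    show ((g * h : H) : G) * (Additive.toMul v : V) * ((g * h : H) : G)⁻¹ =
      (g : G) * ((h : G) * (Additive.toMul v : V) * (h : G)⁻¹) * (g : G)⁻¹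
    rw [Subgroup.coe_mul]
    group
  let L : H →* Module.End (ZMod p) (Additive V) :=
    { toFun := lin
      map_one' := by
        apply LinearMap.ext
        intro v
        apply Additive.toMul.injective
        apply Subtype.ext
        show ((1 : H) : G) * (Additive.toMul v : V) * ((1 : H) : G)⁻¹ = ((Additive.toMul v : V) : G)
        simp
      map_mul' := hlin }
  let bb := Module.finBasis (ZMod p) (Additive V)
  refine ⟨_, ((LinearMap.toMatrixAlgEquiv bb).toRingEquiv.toRingHom.toMonoidHom).comp L, ?_, ?_⟩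
  · refine (LinearMap.toMatrixAlgEquiv bb).injective.comp fun g h e => ?_
    have hmem : (h : G)⁻¹ * g ∈ H ⊓ Subgroup.centralizer (V : Set G) := by
      refine ⟨H.mul_mem (H.inv_mem h.2) g.2, Subgroup.mem_centralizer_iff.mpr fun v hv => ?_⟩
      have h1 := LinearMap.congr_fun e (Additive.ofMul (⟨v, hv⟩ : V))
      have h2 : (g : G) * v * (g : G)⁻¹ = (h : G) * v * (h : G)⁻¹ :=
        congrArg (fun x => ((Additive.toMul x : V) : G)) h1
      calc v * ((h : G)⁻¹ * g) = (h : G)⁻¹ * ((h : G) * v * (h : G)⁻¹) * g := by group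
        _ = (h : G)⁻¹ * g * v := by rw [← h2]; group
    rw [hf, Subgroup.mem_bot, inv_mul_eq_one] at hmem
    exact Subtype.ext hmem.symm
  · intro h hq
    show (LinearMap.toMatrixAlgEquiv bb (L h) - 1) * (LinearMap.toMatrixAlgEquiv bb (L h) - 1) = 0
    rw [← map_one (LinearMap.toMatrixAlgEquiv bb), ← map_sub, ← map_mul]
    have hzero : (L h - 1) * (L h - 1) = 0 := by
      refine LinearMap.ext fun x => ?_
      show L h (L h x - x) - (L h x - x) = 0
      rw [sub_eq_zero, sub_eq_add_neg]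
      refine congrArg Additive.ofMul (Subtype.ext ?_)
      set v : G := ((Additive.toMul x : V) : G)
      show (h : G) * ((h : G) * v * (h : G)⁻¹ * v⁻¹) * (h : G)⁻¹ = (h : G) * v * (h : G)⁻¹ * v⁻¹
      have h1 : ⁅v, (h : G)⁆ ∈ ⁅V, Subgroup.zpowers (h : G)⁆ :=
        Subgroup.commutator_mem_commutator (Additive.toMul x).2 (Subgroup.mem_zpowers _)
      have h2 : ⁅⁅v, (h : G)⁆, (h : G)⁆ = 1 := by
        have := Subgroup.commutator_mem_commutator h1 (Subgroup.mem_zpowers (h : G))
        rwa [hq, Subgroup.mem_bot] at this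
      have h3 : Commute ⁅v, (h : G)⁆ (h : G) := commutatorElement_eq_one_iff_commute.mp h2
      have h4 := h3.inv_left
      rw [commutatorElement_inv, commutatorElement_def] at h4
      rw [← h4.eq, mul_inv_cancel_right]
    rw [hzero, map_zero]

/-- Two quadratic generators that do not give a `p`-group give a section `SL₂(p)`. -/
theorem exists_section_pair (hp : p ≠ 2) {V H : Subgroup G} (hV : Cfsg.IsElementaryAbelian p V)
    (hHV : H ≤ Subgroup.normalizer (V : Set G))
    (hf : H ⊓ Subgroup.centralizer (V : Set G) = ⊥) {a b : G} (haH : a ∈ H) (hbH : b ∈ H)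
    (ha : ⁅⁅V, Subgroup.zpowers a⁆, Subgroup.zpowers a⁆ = ⊥)
    (hb : ⁅⁅V, Subgroup.zpowers b⁆, Subgroup.zpowers b⁆ = ⊥)
    (hnp : ¬ IsPGroup p ↥(Subgroup.closure ({a, b} : Set G))) :
    ∃ (K : Subgroup G) (f : K →* Matrix.SpecialLinearGroup (Fin 2) (ZMod p)),
      K ≤ Subgroup.closure {a, b} ∧ Function.Surjective f := by
  obtain ⟨n, ρ, hρ, hquad⟩ := exists_rep hV hHV hf
  set W := Subgroup.closure ({a, b} : Set G)
  have hWH : W ≤ H := (Subgroup.closure_le _).mpr (by
    rintro z (rfl | rfl) <;> assumption)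
  let φ := algebraMap (ZMod p) (AlgebraicClosure (ZMod p))
  let ρ' : W →* Matrix (Fin n) (Fin n) (AlgebraicClosure (ZMod p)) :=
    φ.mapMatrix.toMonoidHom.comp (ρ.comp (Subgroup.inclusion hWH))
  haveI : CharP (AlgebraicClosure (ZMod p)) p := charP_of_injective_algebraMap φ.injective p
  have hρ' : Function.Injective ρ' :=
    (Matrix.map_injective φ.injective).comp (hρ.comp (Subgroup.inclusion_injective hWH))
  let a' : W := ⟨a, Subgroup.subset_closure (Set.mem_insert _ _)⟩
  let b' : W := ⟨b, Subgroup.subset_closure (Set.mem_insert_of_mem _ rfl)⟩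
  have hgen : Subgroup.closure ({a', b'} : Set W) = ⊤ := by
    have h1 := Subgroup.closure_closure_coe_preimage (k := ({a, b} : Set G))
    refine eq_top_iff.mpr (h1.ge.trans (Subgroup.closure_mono ?_))
    rintro ⟨z, hz⟩ hz'
    rcases hz' with hz'' | hz''
    · exact Or.inl (Subtype.ext hz'')
    · exact Or.inr (Subtype.ext hz'')
  have hq' : ∀ (z : G) (hz : z ∈ W), ⁅⁅V, Subgroup.zpowers z⁆, Subgroup.zpowers z⁆ = ⊥ →
      (ρ' ⟨z, hz⟩ - 1) * (ρ' ⟨z, hz⟩ - 1) = 0 := fun z hz h => by
    show (φ.mapMatrix (ρ ⟨z, hWH hz⟩) - 1) * (φ.mapMatrix (ρ ⟨z, hWH hz⟩) - 1) = 0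
    rw [← map_one φ.mapMatrix, ← map_sub, ← map_mul, hquad ⟨z, hWH hz⟩ h, map_zero]
  obtain ⟨K', f, hf'⟩ := exists_surj_sl2 hp ρ' hρ' hgen (hq' a _ ha) (hq' b _ hb) hnp
  refine ⟨K'.map W.subtype, f.comp (K'.equivMapOfInjective W.subtype W.subtype_injective).symm.toMonoidHom,
    Subgroup.map_subtype_le K', hf'.comp (MulEquiv.surjective _)⟩

omit [Fact p.Prime] in
theorem quadratic_map_conj {V : Subgroup G} {g x : G} (hg : g ∈ Subgroup.normalizer (V : Set G))
    (hq : ⁅⁅V, Subgroup.zpowers x⁆, Subgroup.zpowers x⁆ = ⊥) :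
    ⁅⁅V, Subgroup.zpowers (g * x * g⁻¹)⁆, Subgroup.zpowers (g * x * g⁻¹)⁆ = ⊥ := by
  have hVg : V.map (MulAut.conj g).toMonoidHom = V := Subgroup.eq_of_le_of_card_ge
    (by rintro _ ⟨v, hv, rfl⟩; exact conj_mem_normalizer hg hv)
    (Subgroup.card_map_of_injective (MulAut.conj g).injective).ge
  have h := congrArg (Subgroup.map (MulAut.conj g).toMonoidHom) hq
  rw [Subgroup.map_commutator, Subgroup.map_commutator, hVg, MonoidHom.map_zpowers,
    Subgroup.map_bot] at h
  exact h

/-- A quadratic element of a faithfully acting group has order dividing `p`. -/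
theorem pow_prime_eq_one {V H : Subgroup G} (hV : Cfsg.IsElementaryAbelian p V)
    (hHV : H ≤ Subgroup.normalizer (V : Set G))
    (hf : H ⊓ Subgroup.centralizer (V : Set G) = ⊥) {x : G} (hx : x ∈ H)
    (hq : ⁅⁅V, Subgroup.zpowers x⁆, Subgroup.zpowers x⁆ = ⊥) : x ^ p = 1 := by
  obtain ⟨n, ρ, hρ, hquad⟩ := exists_rep hV hHV hf
  have h := hquad ⟨x, hx⟩ hq
  rcases Nat.eq_zero_or_pos n with hn | hn
  · subst hn
    exact congrArg Subtype.val (hρ (Subsingleton.elim (ρ (⟨x, hx⟩ ^ p)) (ρ 1)))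
  haveI : Nonempty (Fin n) := ⟨⟨0, hn⟩⟩
  have h0 : (ρ ⟨x, hx⟩ - 1) ^ p = 0 :=
    pow_eq_zero_of_le (Fact.out : p.Prime).two_le (by rw [pow_two, h])
  rw [sub_pow_char_of_commute p (Commute.one_right _), one_pow, sub_eq_zero, ← map_pow,
    ← map_one ρ] at h0
  exact congrArg Subtype.val (hρ h0)

/-- **Thompson**: a quadratic element outside `O_p(H)` gives a section `SL₂(p)` of `H`. -/
theorem exists_section_of_notMem_pCore (hp : p ≠ 2) {V H : Subgroup G}
    (hV : Cfsg.IsElementaryAbelian p V) (hHV : H ≤ Subgroup.normalizer (V : Set G))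
    (hf : H ⊓ Subgroup.centralizer (V : Set G) = ⊥) {x : G} (hxH : x ∈ H)
    (hq : ⁅⁅V, Subgroup.zpowers x⁆, Subgroup.zpowers x⁆ = ⊥)
    (hx : x ∉ (Cfsg.pCore p H).map H.subtype) :
    ∃ (K : Subgroup G) (f : K →* Matrix.SpecialLinearGroup (Fin 2) (ZMod p)),
      K ≤ H ∧ Function.Surjective f := by
  have hxp := pow_prime_eq_one hV hHV hf hxH hq
  by_cases hall : ∀ g : H, IsPGroup p
      ↥(Subgroup.zpowers (⟨x, hxH⟩ : H) ⊔ (Subgroup.zpowers (⟨x, hxH⟩ : H)).map (MulAut.conj g).toMonoidHom)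
  · exfalso
    obtain ⟨N, hNn, hNp, hxN⟩ := BaerSuzuki.baer_suzuki _ hall
    have hle : N ≤ Cfsg.pCore p H := le_sSup ⟨hNn, hNp⟩
    exact hx ⟨⟨x, hxH⟩, hle (hxN (Subgroup.mem_zpowers _)), rfl⟩
  push Not at hall
  obtain ⟨g, hg⟩ := hall
  set x' : H := ⟨x, hxH⟩
  have hnp : ¬ IsPGroup p ↥(Subgroup.closure ({x, (g : G) * x * (g : G)⁻¹} : Set G)) := by
    intro hW
    refine hg ?_
    set Y := Subgroup.zpowers x' ⊔ (Subgroup.zpowers x').map (MulAut.conj g).toMonoidHom
    have hle : Y ≤ (Subgroup.closure ({x, (g : G) * x * (g : G)⁻¹} : Set G)).comap H.subtype := by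
      refine sup_le (Subgroup.zpowers_le.mpr ?_) ?_
      · exact Subgroup.subset_closure (Set.mem_insert _ _)
      · rw [MonoidHom.map_zpowers, Subgroup.zpowers_le]
        exact Subgroup.subset_closure (Set.mem_insert_of_mem _ rfl)
    exact hW.of_injective ((H.subtype.comp Y.subtype).codRestrict _ fun z => hle z.2) fun z z' e =>
      Subtype.ext (Subtype.ext (congrArg
        (fun w : ↥(Subgroup.closure ({x, (g : G) * x * (g : G)⁻¹} : Set G)) => (w : G)) e))
  obtain ⟨K, f, hK, hf'⟩ := exists_section_pair hp hV hHV hf hxH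
    (H.mul_mem (H.mul_mem g.2 hxH) (H.inv_mem g.2)) hq (quadratic_map_conj (hHV g.2) hq) hnp
  refine ⟨K, f, hK.trans ((Subgroup.closure_le _).mpr ?_), hf'⟩
  rintro z (rfl | rfl)
  · exact hxH
  · exact H.mul_mem (H.mul_mem g.2 hxH) (H.inv_mem g.2)

omit [Finite G] [Fact p.Prime] in
/-- A surjection from a subgroup is a section. -/
theorem exists_section_of_surjective {Y : Type*} [Group Y] {K : Subgroup G} {f : K →* Y}
    (hf : Function.Surjective f) :
    ∃ (L : Subgroup G) (_ : (L.subgroupOf K).Normal), Nonempty ((K ⧸ L.subgroupOf K) ≃* Y) := by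
  have e : (f.ker.map K.subtype).subgroupOf K = f.ker :=
    Subgroup.comap_map_eq_self_of_injective K.subtype_injective _
  have hn : ((f.ker.map K.subtype).subgroupOf K).Normal := by rw [e]; exact f.normal_ker
  exact ⟨f.ker.map K.subtype, hn, ⟨(QuotientGroup.quotientMulEquivOfEq e).trans
    (QuotientGroup.quotientKerEquivOfSurjective f hf)⟩⟩

omit [Finite G] in
/-- The Sylow `2`-subgroups of `SL₂(p)` are not abelian, and neither are those of a group
having it as a section. -/
theorem not_isMulCommutative_sylow_two {H : Type*} [Group H] [Finite H] (hp : p ≠ 2)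
    {K : Subgroup H} {f : K →* Matrix.SpecialLinearGroup (Fin 2) (ZMod p)}
    (hf : Function.Surjective f) (T : Sylow 2 H) : ¬ IsMulCommutative T := by
  intro hT
  haveI : Fact (Nat.Prime 2) := ⟨Nat.prime_two⟩
  obtain ⟨α, β, hαβ⟩ := ZMod.sq_add_sq p (-1)
  let w : Matrix.SpecialLinearGroup (Fin 2) (ZMod p) := ⟨!![0, 1; -1, 0], by simp [det_fin_two]⟩
  let x : Matrix.SpecialLinearGroup (Fin 2) (ZMod p) :=
    ⟨!![α, β; β, -α], by simp [det_fin_two]; linear_combination -hαβ⟩
  have hconj : x * w * x⁻¹ = w⁻¹ := by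
    rw [mul_inv_eq_iff_eq_mul]
    apply Subtype.ext
    rw [Matrix.SpecialLinearGroup.coe_mul, Matrix.SpecialLinearGroup.coe_mul,
      Matrix.SpecialLinearGroup.coe_inv]
    show (!![α, β; β, -α] : Matrix (Fin 2) (Fin 2) (ZMod p)) * !![0, 1; -1, 0] =
      Matrix.adjugate (!![0, 1; -1, 0] : Matrix (Fin 2) (Fin 2) (ZMod p)) * !![α, β; β, -α]
    rw [Matrix.adjugate_fin_two_of, Matrix.mul_fin_two, Matrix.mul_fin_two]
    simp
  have hsq : ∀ y : Matrix.SpecialLinearGroup (Fin 2) (ZMod p), SLTwoSub.tr y = 0 →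
      IsPGroup 2 (Subgroup.zpowers y) := by
    intro y hy
    have h4 : y ^ 4 = 1 := by
      apply Subtype.ext
      have h2 : y.1 ^ 2 = -1 := by
        have hd := SLTwoSub.det_eq y
        unfold SLTwoSub.tr at hy
        ext i j
        rw [pow_two, Matrix.mul_apply, Fin.sum_univ_two]
        fin_cases i <;> fin_cases j <;> simp
        · linear_combination -hd + y.1 0 0 * hy
        · linear_combination y.1 0 1 * hy
        · linear_combination y.1 1 0 * hy
        · linear_combination -hd + y.1 1 1 * hy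
      rw [Matrix.SpecialLinearGroup.coe_pow, Matrix.SpecialLinearGroup.coe_one,
        show y.1 ^ 4 = y.1 ^ 2 * y.1 ^ 2 from pow_add y.1 2 2, h2, neg_one_mul, neg_neg]
    obtain ⟨i, -, hi⟩ := (Nat.dvd_prime_pow Nat.prime_two).mp
      (show orderOf y ∣ 2 ^ 2 from orderOf_dvd_of_pow_eq_one h4)
    exact IsPGroup.of_card (n := i) (by rw [Nat.card_zpowers, hi])
  have hn : Subgroup.zpowers x ≤ Subgroup.normalizer (Subgroup.zpowers w : Set _) := by
    refine Subgroup.zpowers_le.mpr (Subgroup.mem_normalizer_iff.mpr fun z => ?_)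
    have e : (Subgroup.zpowers w).map (MulAut.conj x).toMonoidHom = Subgroup.zpowers w := by
      rw [MonoidHom.map_zpowers]
      show Subgroup.zpowers (x * w * x⁻¹) = _
      rw [hconj, Subgroup.zpowers_inv]
    constructor
    · exact fun hz => e.le ⟨z, hz, rfl⟩
    · intro hz
      rw [← e] at hz
      obtain ⟨u, hu, eu⟩ := hz
      exact (MulAut.conj x).injective eu ▸ hu
  obtain ⟨R, hR⟩ := (IsPGroup.to_sup_of_normal_right' (hsq x (by simp [SLTwoSub.tr, x]))
    (hsq w (by simp [SLTwoSub.tr, w])) hn).exists_le_sylow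
  -- the image of a Sylow subgroup of the preimage
  obtain ⟨S⟩ : Nonempty (Sylow 2 K) := inferInstance
  obtain ⟨T', hT'⟩ := (S.2.map K.subtype).exists_le_sylow
  obtain ⟨c, hc⟩ := MulAction.exists_smul_eq H T T'
  obtain ⟨d, hd⟩ := MulAction.exists_smul_eq (Matrix.SpecialLinearGroup (Fin 2) (ZMod p)) (S.mapSurjective hf) R
  have hcomm : ∀ u ∈ (S : Subgroup K), ∀ v ∈ (S : Subgroup K), u * v = v * u := by
    intro u hu v hv
    have hu' := hT' ⟨u, hu, rfl⟩
    have hv' := hT' ⟨v, hv, rfl⟩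
    rw [← hc, Sylow.coe_subgroup_smul, Subgroup.mem_smul_pointwise_iff_exists] at hu' hv'
    obtain ⟨u₀, hu₀, eu⟩ := hu'
    obtain ⟨v₀, hv₀, ev⟩ := hv'
    apply Subtype.ext
    show (u : H) * v = (v : H) * u
    rw [show (u : H) = c * u₀ * c⁻¹ from eu.symm, show (v : H) = c * v₀ * c⁻¹ from ev.symm]
    have h := congrArg Subtype.val
      (hT.is_comm.comm (⟨u₀, hu₀⟩ : (T : Subgroup H)) ⟨v₀, hv₀⟩)
    calc c * u₀ * c⁻¹ * (c * v₀ * c⁻¹) = c * (u₀ * v₀) * c⁻¹ := by group
      _ = _ := by rw [show u₀ * v₀ = v₀ * u₀ from h]; group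
  have hwx : w * x = x * w := by
    have h1 := hR (Subgroup.mem_sup_right (Subgroup.mem_zpowers w))
    have h2 := hR (Subgroup.mem_sup_left (Subgroup.mem_zpowers x))
    rw [← hd, Sylow.coe_subgroup_smul, Subgroup.mem_smul_pointwise_iff_exists] at h1 h2
    obtain ⟨w₀, ⟨u, hu, rfl⟩, ew⟩ := h1
    obtain ⟨x₀, ⟨v, hv, rfl⟩, ex⟩ := h2
    rw [← ew, ← ex]
    show d * f u * d⁻¹ * (d * f v * d⁻¹) = d * f v * d⁻¹ * (d * f u * d⁻¹)
    have h := congrArg f (hcomm u hu v hv)
    rw [map_mul, map_mul] at h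
    calc d * f u * d⁻¹ * (d * f v * d⁻¹) = d * (f u * f v) * d⁻¹ := by group
      _ = _ := by rw [h]; group
  have hww : w⁻¹ = w := by rw [← hconj, ← hwx, mul_inv_cancel_right]
  have h01 := congrArg (fun z : Matrix.SpecialLinearGroup (Fin 2) (ZMod p) => z.1 0 1) hww
  simp only [SLTwoSub.inv_entries] at h01
  refine SLTwoSub.two_ne_zero' (F := ZMod p) hp ?_
  have h01' : -(1 : ZMod p) = 1 := by simpa [w] using h01
  linear_combination -h01'

end Cfsg.Lib.QuadPair
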