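import Cfsg.Agent.Quadratic.LinearPair

/-!
Two quadratic generators which do not give a `p`-group act as `SL₂(p)` on a natural plane over
the prime field.
-/

set_option autoImplicit false

namespace Cfsg.Lib.QuadPair

open Matrix

variable {n : ℕ} {p : ℕ} [Fact p.Prime] {K : Type*} [Group K] [Finite K]

omit [Fact p.Prime] in
/-- Every nonzero vector is a first column. -/
theorem exists_first_column {F : Type*} [Field F] {s t : F} (h : s ≠ 0 ∨ t ≠ 0) :
    ∃ M : Matrix.SpecialLinearGroup (Fin 2) F, M.1 0 0 = s ∧ M.1 1 0 = t := by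
  by_cases hs : s = 0
  · have ht : t ≠ 0 := h.resolve_left (fun e => e hs)
    exact ⟨⟨!![0, -t⁻¹; t, 0], by simp [det_fin_two, ht]⟩, hs.symm, rfl⟩
  · exact ⟨⟨!![s, 0; t, s⁻¹], by simp [det_fin_two, hs]⟩, rfl, rfl⟩

theorem exists_natural_plane (hp : p ≠ 2) (ρ : K →* Matrix (Fin n) (Fin n) (ZMod p))
    (hρ : Function.Injective ρ) {a b : K} (hgen : Subgroup.closure {a, b} = ⊤)
    (ha : (ρ a - 1) * (ρ a - 1) = 0) (hb : (ρ b - 1) * (ρ b - 1) = 0) (hnp : ¬ IsPGroup p K) :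
    ∃ f₁ f₂ : Fin n → ZMod p, (∀ s t : ZMod p, s • f₁ + t • f₂ = 0 → s = 0 ∧ t = 0) ∧
      ∀ M : Matrix.SpecialLinearGroup (Fin 2) (ZMod p), ∃ g : K,
        ρ g *ᵥ f₁ = M.1 0 0 • f₁ + M.1 1 0 • f₂ ∧ ρ g *ᵥ f₂ = M.1 0 1 • f₁ + M.1 1 1 • f₂ := by
  classical
  let φ := algebraMap (ZMod p) (AlgebraicClosure (ZMod p))
  haveI : CharP (AlgebraicClosure (ZMod p)) p := charP_of_injective_algebraMap φ.injective p
  let ρ' : K →* Matrix (Fin n) (Fin n) (AlgebraicClosure (ZMod p)) :=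
    φ.mapMatrix.toMonoidHom.comp ρ
  have hρ' : Function.Injective ρ' := (Matrix.map_injective φ.injective).comp hρ
  have hq : ∀ g, (ρ g - 1) * (ρ g - 1) = 0 → (ρ' g - 1) * (ρ' g - 1) = 0 := fun g h => by
    show (φ.mapMatrix (ρ g) - 1) * (φ.mapMatrix (ρ g) - 1) = 0
    rw [← map_one φ.mapMatrix, ← map_sub, ← map_mul, h, map_zero]
  obtain ⟨e₁, e₂, hind, hplane⟩ := exists_plane hp ρ' hρ' hgen (hq a ha) (hq b hb) hnp
  -- a functional over the prime field not killing `e₁`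
  obtain ⟨i, hi⟩ : ∃ i, e₁ i ≠ 0 := by
    by_contra h
    push Not at h
    have := (hind 1 0 (by rw [one_smul, zero_smul, add_zero]; exact funext h)).1
    exact one_ne_zero this
  obtain ⟨lam, hlam⟩ := Module.Projective.exists_dual_ne_zero (ZMod p) hi
  set f₁ : Fin n → ZMod p := fun j => lam (e₁ j)
  set f₂ : Fin n → ZMod p := fun j => lam (e₂ j)
  have hlin : ∀ (s t : ZMod p) (j : Fin n),
      lam ((φ s • e₁ + φ t • e₂) j) = (s • f₁ + t • f₂) j := by
    intro s t j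
    simp only [Pi.add_apply, Pi.smul_apply, smul_eq_mul, f₁, f₂, φ, ← Algebra.smul_def, map_add,
      map_smul]
  have hmove : ∀ (g : K) (x : Fin n → AlgebraicClosure (ZMod p)),
      (fun j => lam ((ρ' g *ᵥ x) j)) = ρ g *ᵥ fun j => lam (x j) := by
    intro g x
    funext j
    simp only [mulVec, dotProduct, map_sum]
    refine Finset.sum_congr rfl fun l _ => ?_
    show lam (φ (ρ g j l) * x l) = _
    rw [← Algebra.smul_def, map_smul, smul_eq_mul]
  have hact : ∀ M : Matrix.SpecialLinearGroup (Fin 2) (ZMod p), ∃ g : K,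
      ρ g *ᵥ f₁ = M.1 0 0 • f₁ + M.1 1 0 • f₂ ∧ ρ g *ᵥ f₂ = M.1 0 1 • f₁ + M.1 1 1 • f₂ := by
    intro M
    obtain ⟨g, h1, h2⟩ := hplane M
    refine ⟨g, funext fun j => ?_, funext fun j => ?_⟩
    · rw [← hlin, ← h1, ← hmove]
    · rw [← hlin, ← h2, ← hmove]
  refine ⟨f₁, f₂, fun s t h => ?_, hact⟩
  by_contra hne
  obtain ⟨M, hM0, hM1⟩ := exists_first_column (s := s) (t := t) (by
    by_contra h'
    push Not at h'
    exact hne h')
  -- `g` maps `f₁` to zero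
  obtain ⟨g, hg, -⟩ := hact M
  rw [hM0, hM1, h] at hg
  have h0 : f₁ = 0 := by
    have := congrArg (ρ g⁻¹ *ᵥ ·) hg
    simp only [mulVec_mulVec, ← map_mul, inv_mul_cancel, map_one, one_mulVec, mulVec_zero] at this
    exact this
  exact hlam (congrFun h0 i)

end Cfsg.Lib.QuadPair
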