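import Mathlib.LinearAlgebra.Matrix.SpecialLinearGroup
import Mathlib.LinearAlgebra.Matrix.Charpoly.Coeff
import Mathlib.GroupTheory.OrderOfElement
import Mathlib.Algebra.CharP.Lemmas
import Mathlib.LinearAlgebra.Matrix.CharP
import Mathlib.Tactic

/-!
Elementary facts about the elements of `SL₂(F)`: fixed lines, centralizers, unipotents.
-/

set_option autoImplicit false

namespace Cfsg.Lib.SLTwoSub

open Matrix

variable {F : Type*} [Field F]

local notation "SL2" => Matrix.SpecialLinearGroup (Fin 2) F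

/-- The determinant of two vectors. -/
def dep (v w : Fin 2 → F) : F := v 0 * w 1 - v 1 * w 0

/-- The trace. -/
def tr (x : SL2) : F := x.1 0 0 + x.1 1 1

/-- `x` is a scalar matrix. -/
def IsScal (x : SL2) : Prop := x.1 0 1 = 0 ∧ x.1 1 0 = 0 ∧ x.1 0 0 = x.1 1 1

/-- `x` fixes the line through `v`. -/
def Fixes (x : SL2) (v : Fin 2 → F) : Prop := ∃ c : F, x.1 *ᵥ v = c • v

theorem det_eq (x : SL2) : x.1 0 0 * x.1 1 1 - x.1 0 1 * x.1 1 0 = 1 := by
  have := x.2
  rwa [det_fin_two] at this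

theorem mulVec_two (M : Matrix (Fin 2) (Fin 2) F) (v : Fin 2 → F) (i : Fin 2) :
    (M *ᵥ v) i = M i 0 * v 0 + M i 1 * v 1 := by
  simp [mulVec, dotProduct, Fin.sum_univ_two]

theorem eq_entries {M : Matrix (Fin 2) (Fin 2) F} {v : Fin 2 → F} {c : F} (h : M *ᵥ v = c • v) :
    M 0 0 * v 0 + M 0 1 * v 1 = c * v 0 ∧ M 1 0 * v 0 + M 1 1 * v 1 = c * v 1 := by
  have h0 := congrFun h 0
  have h1 := congrFun h 1
  simp only [mulVec_two, Pi.smul_apply, smul_eq_mul] at h0 h1
  exact ⟨h0, h1⟩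

theorem mul_entries (x y : SL2) (i j : Fin 2) :
    (x * y).1 i j = x.1 i 0 * y.1 0 j + x.1 i 1 * y.1 1 j := by
  show (x.1 * y.1) i j = _
  rw [Matrix.mul_apply, Fin.sum_univ_two]

theorem ext_entries {x y : SL2} (h00 : x.1 0 0 = y.1 0 0) (h01 : x.1 0 1 = y.1 0 1)
    (h10 : x.1 1 0 = y.1 1 0) (h11 : x.1 1 1 = y.1 1 1) : x = y :=
  Subtype.ext (Matrix.ext fun i j => by fin_cases i <;> fin_cases j <;> assumption)

theorem inv_entries (x : SL2) : (x⁻¹).1 0 0 = x.1 1 1 ∧ (x⁻¹).1 0 1 = -x.1 0 1 ∧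
    (x⁻¹).1 1 0 = -x.1 1 0 ∧ (x⁻¹).1 1 1 = x.1 0 0 := by
  rw [SpecialLinearGroup.coe_inv, adjugate_fin_two]
  simp

theorem isScal_one : IsScal (1 : SL2) := ⟨by simp, by simp, by simp⟩

theorem IsScal.comm {z : SL2} (h : IsScal z) (x : SL2) : z * x = x * z := by
  obtain ⟨h1, h2, h3⟩ := h
  apply ext_entries <;> simp only [mul_entries, h1, h2, h3] <;> ring

theorem IsScal.fixes {z : SL2} (h : IsScal z) (v : Fin 2 → F) : Fixes z v := by
  obtain ⟨h1, h2, h3⟩ := h
  refine ⟨z.1 0 0, funext fun i => ?_⟩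
  fin_cases i
  · show (z.1 *ᵥ v) 0 = _; rw [mulVec_two, h1]; simp
  · show (z.1 *ᵥ v) 1 = _; rw [mulVec_two, h2, h3]; simp

theorem IsScal.eq_or {z : SL2} (h : IsScal z) :
    z.1 0 0 = 1 ∨ z.1 0 0 = -1 := by
  obtain ⟨h1, h2, h3⟩ := h
  have := det_eq z
  rw [h1, h2, ← h3] at this
  exact mul_self_eq_one_iff.mp (by linear_combination this)

theorem IsScal.ext {z w : SL2} (hz : IsScal z) (hw : IsScal w) (h : z.1 0 0 = w.1 0 0) : z = w :=
  ext_entries h (hz.1.trans hw.1.symm) (hz.2.1.trans hw.2.1.symm)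
    (hz.2.2.symm.trans (h.trans hw.2.2))

theorem IsScal.mul {z w : SL2} (hz : IsScal z) (hw : IsScal w) : IsScal (z * w) := by
  obtain ⟨a1, a2, a3⟩ := hz
  obtain ⟨b1, b2, b3⟩ := hw
  exact ⟨by rw [mul_entries, a1, b1]; ring, by rw [mul_entries, a2, b2]; ring,
    by rw [mul_entries, mul_entries, a1, a2, a3, b3]; ring⟩

theorem IsScal.inv {z : SL2} (hz : IsScal z) : IsScal z⁻¹ := by
  obtain ⟨e0, e1, e2, e3⟩ := inv_entries z
  exact ⟨by rw [e1, hz.1, neg_zero], by rw [e2, hz.2.1, neg_zero], by rw [e0, e3, hz.2.2]⟩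

/-- An eigenspace of a nonscalar element is a line. -/
theorem dep_eq_zero_of_eigen {x : SL2} (hx : ¬ IsScal x) {v w : Fin 2 → F} {c : F}
    (hv : x.1 *ᵥ v = c • v) (hw : x.1 *ᵥ w = c • w) : dep v w = 0 := by
  by_contra h
  obtain ⟨v1, v2⟩ := eq_entries hv
  obtain ⟨w1, w2⟩ := eq_entries hw
  have a : (x.1 0 0 - c) * dep v w = 0 := by
    unfold dep; linear_combination (w 1) * v1 - (v 1) * w1
  have b : x.1 0 1 * dep v w = 0 := by
    unfold dep; linear_combination (v 0) * w1 - (w 0) * v1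
  have c' : x.1 1 0 * dep v w = 0 := by
    unfold dep; linear_combination (w 1) * v2 - (v 1) * w2
  have d : (x.1 1 1 - c) * dep v w = 0 := by
    unfold dep; linear_combination (v 0) * w2 - (w 0) * v2
  simp only [mul_eq_zero, h, or_false, sub_eq_zero] at a b c' d
  exact hx ⟨b, c', a.trans d.symm⟩

theorem isScal_of_three {x : SL2} {u v w : Fin 2 → F} (hvw : dep v w ≠ 0) (huv : dep u v ≠ 0)
    (huw : dep u w ≠ 0) (hu : Fixes x u) (hv : Fixes x v) (hw : Fixes x w) : IsScal x := by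
  obtain ⟨a, ha⟩ := hu
  obtain ⟨b, hb⟩ := hv
  obtain ⟨c, hc⟩ := hw
  by_contra h
  obtain ⟨u1, u2⟩ := eq_entries ha
  obtain ⟨v1, v2⟩ := eq_entries hb
  obtain ⟨w1, w2⟩ := eq_entries hc
  have key : (a - b) * (dep u w * dep v w) = 0 := by
    unfold dep
    linear_combination -(v 0 * w 1 - v 1 * w 0) * (w 1 * u1 - w 0 * u2)
      + (u 0 * w 1 - u 1 * w 0) * (w 1 * v1 - w 0 * v2)
      + (v 0 * u 1 - v 1 * u 0) * (w 1 * w1 - w 0 * w2)
  rcases mul_eq_zero.mp key with e | e
  · exact huv (dep_eq_zero_of_eigen h ha ((sub_eq_zero.mp e) ▸ hb))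
  · exact mul_ne_zero huw hvw e

theorem exists_lin {y : SL2} (hy : ¬ IsScal y) {x : SL2} (hc : x * y = y * x) :
    ∃ α β : F, x.1 0 0 = α * y.1 0 0 + β ∧ x.1 0 1 = α * y.1 0 1 ∧ x.1 1 0 = α * y.1 1 0 ∧
      x.1 1 1 = α * y.1 1 1 + β := by
  have e00 : (x * y).1 0 0 = (y * x).1 0 0 := by rw [hc]
  have e01 : (x * y).1 0 1 = (y * x).1 0 1 := by rw [hc]
  have e10 : (x * y).1 1 0 = (y * x).1 1 0 := by rw [hc]
  rw [mul_entries, mul_entries] at e00 e01 e10
  by_cases hb : y.1 0 1 = 0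
  · by_cases hcc : y.1 1 0 = 0
    · have had : y.1 0 0 - y.1 1 1 ≠ 0 := fun h => hy ⟨hb, hcc, sub_eq_zero.mp h⟩
      refine ⟨(x.1 0 0 - x.1 1 1) / (y.1 0 0 - y.1 1 1),
        x.1 0 0 - (x.1 0 0 - x.1 1 1) / (y.1 0 0 - y.1 1 1) * y.1 0 0, by ring, ?_, ?_, ?_⟩
      · rw [hb, mul_zero]
        rw [hb] at e01
        exact (mul_eq_zero.mp (show (y.1 0 0 - y.1 1 1) * x.1 0 1 = 0 by
          linear_combination -e01)).resolve_left had
      · rw [hcc, mul_zero]
        rw [hcc] at e10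
        exact (mul_eq_zero.mp (show (y.1 0 0 - y.1 1 1) * x.1 1 0 = 0 by
          linear_combination e10)).resolve_left had
      · field_simp
        ring
    · refine ⟨x.1 1 0 / y.1 1 0, x.1 0 0 - x.1 1 0 / y.1 1 0 * y.1 0 0, by ring, ?_,
        (div_mul_cancel₀ _ hcc).symm, ?_⟩
      · field_simp
        linear_combination e00
      · field_simp
        linear_combination e10
  · refine ⟨x.1 0 1 / y.1 0 1, x.1 0 0 - x.1 0 1 / y.1 0 1 * y.1 0 0, by ring,
      (div_mul_cancel₀ _ hb).symm, ?_, ?_⟩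
    · field_simp
      linear_combination -e00
    · field_simp
      linear_combination -e01

theorem fixes_of_comm {y : SL2} (hy : ¬ IsScal y) {x : SL2} (hc : x * y = y * x) {v : Fin 2 → F}
    (hv : Fixes y v) : Fixes x v := by
  obtain ⟨α, β, h0, h1, h2, h3⟩ := exists_lin hy hc
  obtain ⟨c, hv⟩ := hv
  obtain ⟨v1, v2⟩ := eq_entries hv
  refine ⟨α * c + β, funext fun i => ?_⟩
  fin_cases i
  · show (x.1 *ᵥ v) 0 = _
    rw [mulVec_two, h0, h1]
    show _ = (α * c + β) * v 0
    linear_combination α * v1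
  · show (x.1 *ᵥ v) 1 = _
    rw [mulVec_two, h2, h3]
    show _ = (α * c + β) * v 1
    linear_combination α * v2

theorem comm_of_comm {y : SL2} (hy : ¬ IsScal y) {x x' : SL2} (hc : x * y = y * x)
    (hc' : x' * y = y * x') : x * x' = x' * x := by
  obtain ⟨α, β, h0, h1, h2, h3⟩ := exists_lin hy hc
  obtain ⟨γ, δ, k0, k1, k2, k3⟩ := exists_lin hy hc'
  apply ext_entries <;> simp only [mul_entries, h0, h1, h2, h3, k0, k1, k2, k3] <;> ring

theorem tr_sq_of_comm {u : SL2} (hu : ¬ IsScal u) (htu : tr u = 2) {x : SL2}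
    (hc : x * u = u * x) : tr x = 2 ∨ tr x = -2 := by
  obtain ⟨α, β, h0, h1, h2, h3⟩ := exists_lin hu hc
  have hd := det_eq x
  have hd' := det_eq u
  unfold tr at htu ⊢
  rw [h0, h1, h2, h3] at hd
  rw [h0, h3]
  have e : (α + β) * (α + β) = 1 := by linear_combination hd - α * α * hd' - α * β * htu
  rcases mul_self_eq_one_iff.mp e with e' | e'
  · left; linear_combination α * htu + 2 * e'
  · right; linear_combination α * htu + 2 * e'

/-- A conjugate of `x` commuting with it is `x` or `x⁻¹`. -/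
theorem eq_or_inv_of_comm (h2' : (2 : F) ≠ 0) {x y : SL2} (hx : tr x ≠ 2) (hx' : tr x ≠ -2) (htr : tr y = tr x)
    (hc : y * x = x * y) : y = x ∨ y = x⁻¹ := by
  have hns : ¬ IsScal x := fun h => by
    rcases h.eq_or with e | e
    · exact hx (by rw [tr, ← h.2.2, e]; norm_num)
    · exact hx' (by rw [tr, ← h.2.2, e]; norm_num)
  obtain ⟨α, β, h0, h1, h2, h3⟩ := exists_lin hns hc
  have hd := det_eq y
  have hd' := det_eq x
  rw [h0, h1, h2, h3] at hd
  unfold tr at htr hx hx'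
  rw [h0, h3] at htr
  set t := x.1 0 0 + x.1 1 1
  have e : (α - 1) * ((α + 1) * ((t - 2) * (t + 2))) = 0 := by
    linear_combination -4 * hd + 4 * α * α * hd' + (2 * β + α * t + t) * htr
  rcases mul_eq_zero.mp e with e | e
  · left
    have hβ : 2 * β = 0 := by linear_combination htr - t * e
    have hβ := (mul_eq_zero.mp hβ).resolve_left h2'
    · have hα : α = 1 := sub_eq_zero.mp e
      rw [hα, hβ] at h0 h3
      rw [hα] at h1 h2
      exact ext_entries (by rw [h0]; ring) (by rw [h1]; ring) (by rw [h2]; ring)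
        (by rw [h3]; ring)
  · rcases mul_eq_zero.mp e with e | e
    · right
      have hα : α = -1 := eq_neg_of_add_eq_zero_left e
      have hβ : 2 * (β - t) = 0 := by linear_combination htr - t * e
      have hβ := (mul_eq_zero.mp hβ).resolve_left h2'
      · have hβ' : β = x.1 0 0 + x.1 1 1 := sub_eq_zero.mp hβ
        obtain ⟨i0, i1, i2, i3⟩ := inv_entries x
        rw [hα, hβ'] at h0 h3
        rw [hα] at h1 h2
        exact ext_entries (by rw [h0, i0]; ring) (by rw [h1, i1]; ring) (by rw [h2, i2]; ring)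
          (by rw [h3, i3]; ring)
    · rcases mul_eq_zero.mp e with e | e
      · exact absurd (sub_eq_zero.mp e) hx
      · exact absurd (eq_neg_of_add_eq_zero_left e) hx'

theorem tr_conj (h x : SL2) : tr (h * x * h⁻¹) = tr x := by
  have : (h * x * h⁻¹).1.trace = x.1.trace := by
    show (h.1 * x.1 * (h⁻¹).1).trace = _
    rw [Matrix.trace_mul_comm, ← Matrix.mul_assoc,
      show (h⁻¹).1 * h.1 = 1 from congrArg Subtype.val (inv_mul_cancel h), Matrix.one_mul]
  simpa [Matrix.trace_fin_two, tr] using this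

theorem tr_eq_two_of_fix {x : SL2} {v : Fin 2 → F} (hv : v ≠ 0) (h : x.1 *ᵥ v = v) : tr x = 2 := by
  obtain ⟨v1, v2⟩ := eq_entries (M := x.1) (v := v) (c := (1 : F)) (by rw [h, one_smul])
  have hd := det_eq x
  have e0 : (tr x - 2) * v 0 = 0 := by
    unfold tr; linear_combination (1 - x.1 1 1) * v1 + x.1 0 1 * v2 + (v 0) * hd
  have e1 : (tr x - 2) * v 1 = 0 := by
    unfold tr; linear_combination (1 - x.1 0 0) * v2 + x.1 1 0 * v1 + (v 1) * hd
  rcases mul_eq_zero.mp e0 with e | e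
  · exact sub_eq_zero.mp e
  · rcases mul_eq_zero.mp e1 with e' | e'
    · exact sub_eq_zero.mp e'
    · exact absurd (funext fun i => by fin_cases i <;> assumption) hv

/-- An element of trace `2` fixes a vector; it is then the only fixed line. -/
theorem exists_fix_of_tr {x : SL2} (h : tr x = 2) : ∃ v, v ≠ 0 ∧ x.1 *ᵥ v = v := by
  by_cases hs : IsScal x
  · refine ⟨![1, 0], fun e => one_ne_zero (congrFun e 0), funext fun i => ?_⟩
    obtain ⟨a, b, c⟩ := hs
    unfold tr at h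
    rw [← c] at h
    have hd := det_eq x
    rw [a, b, ← c] at hd
    have ha : x.1 0 0 = 1 :=
      sub_eq_zero.mp (mul_self_eq_zero.mp (by linear_combination hd - h))
    fin_cases i
    · show (x.1 *ᵥ _) 0 = _
      rw [mulVec_two, ha, a]
      simp
    · show (x.1 *ᵥ _) 1 = _
      rw [mulVec_two, b]
      simp
  · have hd := det_eq x
    unfold tr at h
    by_cases hc : x.1 1 0 = 0
    · have ha : x.1 0 0 = 1 := by
        have e : (x.1 0 0 - 1) * (x.1 0 0 - 1) = 0 := by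
          linear_combination -hd + (x.1 0 0) * h - x.1 0 1 * hc
        exact sub_eq_zero.mp (mul_self_eq_zero.mp e)
      refine ⟨![1, 0], fun e => one_ne_zero (congrFun e 0), funext fun i => ?_⟩
      fin_cases i
      · show (x.1 *ᵥ _) 0 = _; rw [mulVec_two, ha]; simp
      · show (x.1 *ᵥ _) 1 = _; rw [mulVec_two, hc]; simp
    · refine ⟨![1 - x.1 1 1, x.1 1 0], fun e => hc (congrFun e 1), funext fun i => ?_⟩
      fin_cases i
      · show (x.1 *ᵥ _) 0 = _
        rw [mulVec_two]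
        show x.1 0 0 * (1 - x.1 1 1) + x.1 0 1 * x.1 1 0 = 1 - x.1 1 1
        linear_combination -hd + h
      · show (x.1 *ᵥ _) 1 = _
        rw [mulVec_two]
        show x.1 1 0 * (1 - x.1 1 1) + x.1 1 1 * x.1 1 0 = x.1 1 0
        ring

theorem eigen_one_of_tr {x : SL2} (h : tr x = 2) {v : Fin 2 → F} (hv : v ≠ 0) (hf : Fixes x v) :
    x.1 *ᵥ v = v := by
  obtain ⟨c, hc⟩ := hf
  obtain ⟨v1, v2⟩ := eq_entries hc
  have hd := det_eq x
  unfold tr at h
  have e0 : (c - 1) * (c - 1) * v 0 = 0 := by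
    linear_combination (x.1 1 1 - c) * v1 - x.1 0 1 * v2 - (v 0) * hd + (c * v 0) * h
  have e1 : (c - 1) * (c - 1) * v 1 = 0 := by
    linear_combination (x.1 0 0 - c) * v2 - x.1 1 0 * v1 - (v 1) * hd + (c * v 1) * h
  have : c = 1 := by
    rcases mul_eq_zero.mp e0 with e | e
    · exact sub_eq_zero.mp (mul_self_eq_zero.mp e)
    · rcases mul_eq_zero.mp e1 with e' | e'
      · exact sub_eq_zero.mp (mul_self_eq_zero.mp e')
      · exact absurd (funext fun i => by fin_cases i <;> assumption) hv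
  rw [hc, this, one_smul]

variable {p : ℕ} [Fact p.Prime] [CharP F p]

theorem sq_sub_one_of_tr {x : SL2} (h : tr x = 2) : (x.1 - 1) ^ 2 = 0 := by
  have hd := det_eq x
  unfold tr at h
  ext i j
  rw [pow_two, Matrix.mul_apply, Fin.sum_univ_two]
  fin_cases i <;> fin_cases j <;> simp
  · linear_combination -hd + x.1 0 0 * h
  · linear_combination x.1 0 1 * h
  · linear_combination x.1 1 0 * h
  · linear_combination -hd + x.1 1 1 * h

theorem pow_prime_of_tr {x : SL2} (h : tr x = 2) : x ^ p = 1 := by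
  apply Subtype.ext
  rw [SpecialLinearGroup.coe_pow, SpecialLinearGroup.coe_one, ← sub_eq_zero]
  have := sub_pow_char_of_commute p (Commute.one_right x.1)
  rw [one_pow] at this
  rw [← this, show p = 2 + (p - 2) from (Nat.add_sub_cancel' (Fact.out : p.Prime).two_le).symm,
    pow_add, sq_sub_one_of_tr h, zero_mul]

theorem tr_of_pow {x : SL2} {k : ℕ} (h : x ^ p ^ k = 1) : tr x = 2 := by
  have h1 : IsNilpotent (x.1 - 1) := ⟨p ^ k, by
    rw [sub_pow_char_pow_of_commute p k (Commute.one_right x.1), one_pow,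
      ← SpecialLinearGroup.coe_pow, h, SpecialLinearGroup.coe_one, sub_self]⟩
  have h2 := (Matrix.isNilpotent_trace_of_isNilpotent h1).eq_zero
  rw [Matrix.trace_fin_two] at h2
  simp only [Matrix.sub_apply, Matrix.one_apply_eq] at h2
  unfold tr
  linear_combination h2

/-- An element of trace `-2`: its `p`-th power is `-1`. -/
theorem pow_prime_of_tr_neg (hp : p ≠ 2) {x : SL2} (h : tr x = -2) :
    (x ^ p).1 = -1 := by
  rw [SpecialLinearGroup.coe_pow, ← add_eq_zero_iff_eq_neg]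
  have hodd : Odd p := (Fact.out : p.Prime).odd_of_ne_two hp
  have hsq : (-x.1 - 1) ^ 2 = 0 := by
    have hd := det_eq x
    unfold tr at h
    ext i j
    rw [pow_two, Matrix.mul_apply, Fin.sum_univ_two]
    fin_cases i <;> fin_cases j <;> simp
    · linear_combination -hd + x.1 0 0 * h
    · linear_combination x.1 0 1 * h
    · linear_combination x.1 1 0 * h
    · linear_combination -hd + x.1 1 1 * h
  have := sub_pow_char_of_commute p (Commute.one_right (-x.1))
  rw [one_pow, hodd.neg_pow] at this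
  have h0 : (-x.1 - 1) ^ p = 0 := by
    rw [show p = 2 + (p - 2) from (Nat.add_sub_cancel' (Fact.out : p.Prime).two_le).symm,
      pow_add, hsq, zero_mul]
  rw [h0] at this
  rw [← neg_eq_zero, neg_add, ← sub_eq_add_neg, ← this]

theorem two_ne_zero' (hp : p ≠ 2) : (2 : F) ≠ 0 := fun h => hp (by
  have := (CharP.cast_eq_zero_iff F p 2).mp (by exact_mod_cast h)
  exact (Nat.prime_dvd_prime_iff_eq Fact.out Nat.prime_two).mp this)

/-- An involution is scalar. -/
theorem isScal_of_sq (hp : p ≠ 2) {x : SL2} (h : x * x = 1) : IsScal x := by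
  have h2 := two_ne_zero' (F := F) hp
  obtain ⟨e0, e1, e2, -⟩ := inv_entries x
  have hi : x⁻¹ = x := inv_eq_of_mul_eq_one_right h
  rw [hi] at e0 e1 e2
  refine ⟨(mul_eq_zero.mp ?_).resolve_left h2, (mul_eq_zero.mp ?_).resolve_left h2, e0⟩
  · linear_combination e1
  · linear_combination e2

end Cfsg.Lib.SLTwoSub
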