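import Cfsg.Agent.Quadratic.SLTwoSylow

/-!
Counting the elements of a subgroup of `SL₂(F)` with several Sylow `p`-subgroups: either there are
`q + 1` of them, `q` the order of one, or the group has order `120`.
-/

set_option autoImplicit false

namespace Cfsg.Lib.SLTwoSub

open Matrix

variable {F : Type*} [Field F] {p : ℕ} [Fact p.Prime] [CharP F p]

local notation "SL2" => Matrix.SpecialLinearGroup (Fin 2) F

namespace Multi

variable {H : Subgroup (Matrix.SpecialLinearGroup (Fin 2) F)} (M : Multi H p)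
include M

/-- The semisimple elements fixing a given Sylow subgroup. -/
abbrev SemiAt (P : Sylow p H) : Type _ := {x : H // Semi x ∧ x • P = P}

/-- The centralizer in `H`. -/
abbrev cent (x : H) : Subgroup H := Subgroup.centralizer ({x} : Set H)

theorem mem_cent {x y : H} : y ∈ cent x ↔ y * x = x * y := Subgroup.mem_centralizer_singleton_iff

theorem scalars_le_cent (x : H) : scalars H ≤ cent x := fun _ hz => M.mem_cent.mpr (scalars_comm hz x)

theorem cent_eq {x y : H} (hx : Semi x) (hy : ¬ IsScal (y : SL2)) (hc : y ∈ cent x) :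
    cent y = cent x := by
  have hxy := M.mem_cent.mp hc
  ext a
  rw [M.mem_cent, M.mem_cent]
  exact ⟨fun h => Subtype.ext (comm_of_comm hy (congrArg Subtype.val h)
      (congrArg Subtype.val hxy.symm)),
    fun h => Subtype.ext (comm_of_comm (not_scal_of_semi hx) (congrArg Subtype.val h)
      (congrArg Subtype.val hxy))⟩

theorem smul_iff_of_comm {x y : H} (hx : Semi x) (hy : ¬ IsScal (y : SL2)) (hc : y ∈ cent x)
    (P : Sylow p H) : y • P = P ↔ x • P = P :=
  ⟨M.smul_of_comm hy (M.mem_cent.mp hc).symm, M.smul_of_comm (not_scal_of_semi hx) (M.mem_cent.mp hc)⟩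

theorem card_pos_scalars : 0 < Nat.card (scalars H) := by
  haveI := M.fin
  exact Nat.card_pos

/-- The cardinality of the stabilizer of a Sylow subgroup. -/
theorem card_stabilizer (P : Sylow p H) :
    Nat.card (MulAction.stabilizer H P) =
      Nat.card (scalars H) * Nat.card (P : Subgroup H) + Nat.card (SemiAt P) := by
  haveI := M.fin
  classical
  rw [← Nat.card_prod, ← Nat.card_sum]
  refine (Nat.card_congr (Equiv.ofBijective (fun a => a.elim
    (fun b : scalars H × (P : Subgroup H) => (⟨(b.1 : H) * (b.2 : H), by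
      rw [MulAction.mem_stabilizer_iff, mul_smul, M.smul_self_mem b.2.2, M.smul_of_scal b.1.2]⟩ :
        MulAction.stabilizer H P))
    (fun b : SemiAt P => ⟨b.1, MulAction.mem_stabilizer_iff.mpr b.2.2⟩)) ⟨?_, ?_⟩)).symm
  · have htr : ∀ b : scalars H × (P : Subgroup H), ¬ Semi ((b.1 : H) * (b.2 : H)) := fun b hb => by
      have e : tr (((b.1 : H) * b.2 : H) : SL2) = ((b.1 : H) : SL2).1 0 0 * 2 := by
        show tr (((b.1 : H) : SL2) * ((b.2 : H) : SL2)) = _
        rw [tr_scal_mul (show IsScal ((b.1 : H) : SL2) from b.1.2), M.tr_of_mem b.2.2]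
      rcases IsScal.eq_or (show IsScal ((b.1 : H) : SL2) from b.1.2) with e' | e' <;> rw [e'] at e
      · exact hb.1 (e.trans (one_mul _))
      · exact hb.2 (e.trans (show (-1 : F) * 2 = -2 by ring))
    rintro (a | a) (b | b) e <;> simp only [Sum.elim_inl, Sum.elim_inr, Subtype.mk.injEq] at e
    · obtain ⟨h1, h2⟩ := M.scal_mul_inj a.1.2 b.1.2 (M.tr_of_mem a.2.2) (M.tr_of_mem b.2.2) e
      rw [(Prod.ext (Subtype.ext h1) (Subtype.ext h2) : a = b)]
    · exact absurd (e ▸ b.2.1) (htr a)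
    · exact absurd (e.symm ▸ a.2.1) (htr b)
    · rw [Subtype.ext e]
  · rintro ⟨x, hx⟩
    by_cases hs : Semi x
    · exact ⟨Sum.inr ⟨x, hs, hx⟩, rfl⟩
    · obtain ⟨ζ, hζ, u, hu, rfl⟩ := M.exists_scal_mul (x := x) (by
        unfold Semi at hs; tauto)
      have hu' : u • P = P := by
        have h : (ζ * u) • P = P := hx
        rw [mul_smul] at h
        have h2 := congrArg (ζ⁻¹ • ·) h
        simp only [inv_smul_smul] at h2
        rwa [M.smul_of_scal (inv_mem hζ)] at h2
      exact ⟨Sum.inl (⟨ζ, hζ⟩, ⟨u, M.mem_iff.mpr (eigen_one_of_tr hu (M.vec_ne P)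
        (M.smul_iff.mp hu'))⟩), rfl⟩

/-- The elements of trace `±2` and the semisimple ones. -/
theorem card_group : Nat.card H = Nat.card (scalars H) +
    Nat.card (Σ P : Sylow p H, scalars H × {u : (P : Subgroup H) // u ≠ 1}) +
      Nat.card {x : H // Semi x} := by
  haveI := M.fin
  classical
  rw [← Nat.card_sum, ← Nat.card_sum]
  refine (Nat.card_congr (Equiv.ofBijective (fun a => a.elim (fun b => b.elim
    (fun z : scalars H => (z : H))
    (fun c : Σ P : Sylow p H, scalars H × {u : (P : Subgroup H) // u ≠ 1} =>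
      (c.2.1 : H) * ((c.2.2 : (c.1 : Subgroup H)) : H)))
    (fun x : {x : H // Semi x} => (x : H))) ⟨?_, ?_⟩)).symm
  · have htr : ∀ (z u : H), z ∈ scalars H → tr (u : SL2) = 2 → ¬ Semi (z * u) := fun z u hz hu hb => by
      have e : tr ((z * u : H) : SL2) = (z : SL2).1 0 0 * 2 := by
        show tr ((z : SL2) * (u : SL2)) = _
        rw [tr_scal_mul (show IsScal (z : SL2) from hz), hu]
      rcases IsScal.eq_or (show IsScal (z : SL2) from hz) with e' | e' <;> rw [e'] at e
      · exact hb.1 (e.trans (one_mul _))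
      · exact hb.2 (e.trans (show (-1 : F) * 2 = -2 by ring))
    have h1 : tr ((1 : H) : SL2) = 2 := by
      show tr (1 : SL2) = 2
      simp [tr]; norm_num
    rintro ((a | ⟨P, a, u, hu⟩) | a) ((b | ⟨Q, b, w, hw⟩) | b) e <;>
      simp only [Sum.elim_inl, Sum.elim_inr] at e
    · rw [Subtype.ext e]
    · obtain ⟨-, h2⟩ := M.scal_mul_inj a.2 b.2 h1 (M.tr_of_mem w.2) ((mul_one _).trans e)
      exact absurd (Subtype.ext h2.symm) hw
    · exact absurd (e ▸ b.2) (fun h => not_scal_of_semi h a.2)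
    · obtain ⟨-, h2⟩ := M.scal_mul_inj b.2 a.2 h1 (M.tr_of_mem u.2) ((mul_one _).trans e.symm)
      exact absurd (Subtype.ext h2.symm) hu
    · obtain ⟨h1', h2⟩ := M.scal_mul_inj a.2 b.2 (M.tr_of_mem u.2) (M.tr_of_mem w.2) e
      obtain rfl : Q = P := M.eq_of_mem u.2 (fun h => hu (Subtype.ext h)) (h2 ▸ w.2)
      obtain rfl : a = b := Subtype.ext h1'
      obtain rfl : u = w := Subtype.ext h2
      rfl
    · exact absurd (e ▸ b.2) (htr _ _ a.2 (M.tr_of_mem u.2))
    · exact absurd (e.symm ▸ a.2) (fun h => not_scal_of_semi h b.2)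
    · exact absurd (e.symm ▸ a.2) (htr _ _ b.2 (M.tr_of_mem w.2))
    · rw [Subtype.ext e]
  · intro x
    by_cases hs : Semi x
    · exact ⟨Sum.inr ⟨x, hs⟩, rfl⟩
    · obtain ⟨ζ, hζ, u, hu, rfl⟩ := M.exists_scal_mul (x := x) (by unfold Semi at hs; tauto)
      by_cases h1 : u = 1
      · exact ⟨Sum.inl (Sum.inl ⟨ζ, hζ⟩), by simp [h1]⟩
      · obtain ⟨P, hP⟩ := M.exists_mem_sylow hu
        exact ⟨Sum.inl (Sum.inr ⟨P, ⟨ζ, hζ⟩, ⟨u, hP⟩, fun h => h1 (congrArg Subtype.val h)⟩), rfl⟩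

theorem card_semiAt (P Q : Sylow p H) : Nat.card (SemiAt P) = Nat.card (SemiAt Q) := by
  haveI := M.fin
  obtain ⟨g, rfl⟩ := MulAction.exists_smul_eq H P Q
  refine Nat.card_congr ((MulAut.conj g).toEquiv.subtypeEquiv fun x => ?_)
  show Semi x ∧ x • P = P ↔ Semi (g * x * g⁻¹) ∧ (g * x * g⁻¹) • g • P = g • P
  rw [mul_smul, mul_smul, inv_smul_smul, smul_left_cancel_iff]
  refine and_congr_left fun _ => ⟨fun h => semi_conj h g, fun h => ?_⟩
  have := semi_conj h g⁻¹
  simpa [mul_assoc] using this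

/-- The stabilizer of a Sylow subgroup with a semisimple element. -/
theorem stabilizer_structure {P : Sylow p H} {x : H} (hx : Semi x) (hP : x • P = P) :
    Nat.card (MulAction.stabilizer H P) = Nat.card (P : Subgroup H) * Nat.card (cent x) ∧
      ∀ y : H, Semi y → y • P = P → ∃ u : H, ∃ a ∈ cent x, ¬ IsScal (a : SL2) ∧
        y = u * a * u⁻¹ ∧ u • P = P := by
  haveI := M.fin
  have hxs := not_scal_of_semi hx
  -- conjugation by `P` reaches every element of the coset
  have key : ∀ a : H, Semi a → a • P = P → ∀ n : H, n • P = P →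
      ∃ u ∈ (P : Subgroup H), u * a * u⁻¹ = n * a * n⁻¹ := by
    intro a ha haP n hn
    have hmem : ∀ m : H, m • P = P → m * a * m⁻¹ * a⁻¹ ∈ (P : Subgroup H) := by
      intro m hm
      obtain ⟨c, hc⟩ := M.smul_iff.mp haP
      obtain ⟨d, hd⟩ := M.smul_iff.mp hm
      have hconj : (m * a * m⁻¹) • P = P := by
        rw [mul_smul, mul_smul, inv_smul_eq_iff.mpr hm.symm, haP, hm]
      rw [M.mem_iff]
      show ((m : SL2).1 * (a : SL2).1 * ((m : SL2)⁻¹).1 * ((a : SL2)⁻¹).1) *ᵥ M.vec P = M.vec P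
      set v := M.vec P
      have hinv : ∀ (g : SL2) (e : F), g.1 *ᵥ v = e • v → e ≠ 0 ∧ (g⁻¹).1 *ᵥ v = e⁻¹ • v := by
        intro g e he
        have h2 := congrArg ((g⁻¹).1 *ᵥ ·) he
        simp only [mulVec_mulVec, mulVec_smul,
          show (g⁻¹).1 * g.1 = 1 from congrArg Subtype.val (inv_mul_cancel g), one_mulVec] at h2
        have he0 : e ≠ 0 := fun e0 => M.vec_ne P (h2.trans (by rw [e0, zero_smul]))
        exact ⟨he0, by rw [eq_inv_smul_iff₀ he0]; exact h2.symm⟩
      obtain ⟨hc0, hci⟩ := hinv _ c hc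
      obtain ⟨hd0, hdi⟩ := hinv _ d hd
      rw [← mulVec_mulVec, ← mulVec_mulVec, ← mulVec_mulVec, hci, mulVec_smul, hdi, smul_smul,
        mulVec_smul, hc, smul_smul, mulVec_smul, hd, smul_smul]
      field_simp
      rw [one_smul]
    let f : ↥(P : Subgroup H) → ↥(P : Subgroup H) := fun u =>
      ⟨(u : H) * a * (u : H)⁻¹ * a⁻¹, hmem u (M.smul_self_mem u.2)⟩
    have hf : Function.Injective f := by
      intro u w e
      have e' : (u : H) * a * (u : H)⁻¹ = (w : H) * a * (w : H)⁻¹ :=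
        mul_right_cancel (congrArg Subtype.val e)
      by_contra hne
      set t : H := (w : H)⁻¹ * u
      have ht : t ∈ (P : Subgroup H) := mul_mem (inv_mem w.2) u.2
      have ht1 : t ≠ 1 := fun h => hne (Subtype.ext (inv_mul_eq_one.mp h).symm)
      have hta : a * t = t * a := by
        calc a * t = (w : H)⁻¹ * ((w : H) * a * (w : H)⁻¹) * (u : H) := by simp only [t]; group
          _ = t * a := by rw [← e', show t = (w : H)⁻¹ * u from rfl]; group
      exact (tr_sq_of_comm (M.not_scal_of_mem ht ht1) (M.tr_of_mem ht)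
        (congrArg Subtype.val hta)).elim ha.1 ha.2
    obtain ⟨u, hu⟩ := (Finite.injective_iff_surjective.mp hf) ⟨_, hmem n hn⟩
    exact ⟨u, u.2, mul_right_cancel (congrArg Subtype.val hu)⟩
  have hdec : ∀ n : H, n • P = P → ∃ u ∈ (P : Subgroup H), u⁻¹ * n ∈ cent x := by
    intro n hn
    obtain ⟨u, hu, e⟩ := key x hx hP n hn
    refine ⟨u, hu, M.mem_cent.mpr ?_⟩
    calc u⁻¹ * n * x = u⁻¹ * (n * x * n⁻¹) * n := by group
      _ = x * (u⁻¹ * n) := by rw [← e]; group
  constructor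
  · rw [← Nat.card_prod]
    refine (Nat.card_congr (Equiv.ofBijective
      (fun b : ↥(P : Subgroup H) × cent x => (⟨(b.1 : H) * (b.2 : H), by
        rw [MulAction.mem_stabilizer_iff, mul_smul, M.smul_of_comm hxs (M.mem_cent.mp b.2.2) hP,
          M.smul_self_mem b.1.2]⟩ : MulAction.stabilizer H P)) ⟨?_, ?_⟩)).symm
    · rintro ⟨u, a⟩ ⟨w, b⟩ e
      have e' : (u : H) * a = w * b := congrArg Subtype.val e
      have ht : (w : H)⁻¹ * u ∈ cent x := by
        have : (w : H)⁻¹ * u = b * (a : H)⁻¹ := by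
          rw [eq_mul_inv_iff_mul_eq, mul_assoc, e', inv_mul_cancel_left]
        rw [this]
        exact mul_mem b.2 (inv_mem a.2)
      have huw : u = w := by
        by_contra hne
        have ht1 : (w : H)⁻¹ * u ≠ 1 := fun h => hne (Subtype.ext (inv_mul_eq_one.mp h).symm)
        have htP : (w : H)⁻¹ * u ∈ (P : Subgroup H) := mul_mem (inv_mem w.2) u.2
        exact (tr_sq_of_comm (M.not_scal_of_mem htP ht1) (M.tr_of_mem htP)
          (congrArg Subtype.val (M.mem_cent.mp ht)).symm).elim hx.1 hx.2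
      subst huw
      rw [Prod.mk.injEq]
      exact ⟨rfl, Subtype.ext (mul_left_cancel e')⟩
    · rintro ⟨n, hn⟩
      obtain ⟨u, hu, ha⟩ := hdec n hn
      exact ⟨(⟨u, hu⟩, ⟨_, ha⟩), Subtype.ext (mul_inv_cancel_left u n)⟩
  · intro y hy hyP
    obtain ⟨u, hu, ha⟩ := hdec y hyP
    set a := u⁻¹ * y with hadef
    have hya : y = u * a := (mul_inv_cancel_left u y).symm
    have hans : ¬ IsScal (a : SL2) := fun hs => by
      have e : tr (y : SL2) = tr ((a : SL2) * (u : SL2)) := by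
        rw [hya]
        exact congrArg tr ((IsScal.comm hs _).symm)
      rw [tr_scal_mul hs, M.tr_of_mem hu] at e
      rcases hs.eq_or with e' | e' <;> rw [e'] at e
      · exact hy.1 (e.trans (one_mul _))
      · exact hy.2 (e.trans (show (-1 : F) * 2 = -2 by ring))
    have has : Semi a := semi_of_comm hx hans (M.mem_cent.mp ha)
    have haP : a • P = P := (M.smul_iff_of_comm hx hans ha P).mpr hP
    -- `u * a = (u * a * u⁻¹) * u` is a conjugate of `a`
    obtain ⟨n, hn, e⟩ : ∃ n : H, n • P = P ∧ n * a * n⁻¹ = y := by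
      let f : ↥(P : Subgroup H) → ↥(P : Subgroup H) := fun w => ⟨(w : H) * a * (w : H)⁻¹ * a⁻¹, ?_⟩
      · have hf : Function.Injective f := by
          intro w w' e
          have e' : (w : H) * a * (w : H)⁻¹ = (w' : H) * a * (w' : H)⁻¹ :=
            mul_right_cancel (congrArg Subtype.val e)
          by_contra hne
          set t : H := (w' : H)⁻¹ * w with htdef
          have ht : t ∈ (P : Subgroup H) := mul_mem (inv_mem w'.2) w.2
          have ht1 : t ≠ 1 := fun h => hne (Subtype.ext (inv_mul_eq_one.mp h).symm)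
          have hta : a * t = t * a := by
            calc a * t = (w' : H)⁻¹ * ((w' : H) * a * (w' : H)⁻¹) * (w : H) := by rw [htdef]; group
              _ = t * a := by rw [← e', htdef]; group
          exact (tr_sq_of_comm (M.not_scal_of_mem ht ht1) (M.tr_of_mem ht)
            (congrArg Subtype.val hta)).elim has.1 has.2
        obtain ⟨w, hw⟩ := (Finite.injective_iff_surjective.mp hf) ⟨u, hu⟩
        refine ⟨w, M.smul_self_mem w.2, ?_⟩
        have := congrArg Subtype.val hw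
        rw [hya, ← mul_inv_eq_iff_eq_mul]
        exact this
      · have hnorm := (Sylow.smul_eq_iff_mem_normalizer).mp haP
        have h1 : a * (w : H)⁻¹ * a⁻¹ ∈ (P : Subgroup H) :=
          (Subgroup.mem_normalizer_iff.mp hnorm _).mp (inv_mem w.2)
        simpa only [mul_assoc] using mul_mem w.2 h1
    exact ⟨n, a, ha, hans, e.symm, hn⟩

/-- The Sylow subgroups fixed by an element. -/
theorem card_fixed {x : H} (hx : Semi x) {P : Sylow p H} (hP : x • P = P) :
    Nat.card {Q : Sylow p H // x • Q = Q} = 1 ∨ Nat.card {Q : Sylow p H // x • Q = Q} = 2 := by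
  haveI := M.fin
  classical
  by_cases h : ∃ Q, x • Q = Q ∧ Q ≠ P
  · obtain ⟨Q, hQ, hne⟩ := h
    right
    rw [Nat.card_eq_two_iff]
    refine ⟨⟨P, hP⟩, ⟨Q, hQ⟩, fun e => hne (congrArg Subtype.val e).symm,
      Set.eq_univ_of_forall fun ⟨R, hR⟩ => ?_⟩
    by_contra hR'
    simp only [Set.mem_insert_iff, Set.mem_singleton_iff, Subtype.mk.injEq, not_or] at hR'
    exact not_scal_of_semi hx (M.scal_of_three (Ne.symm hne) (Ne.symm hR'.1) (Ne.symm hR'.2) hP hQ hR)
  · push Not at h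
    left
    exact Nat.card_eq_one_iff_exists.mpr ⟨⟨P, hP⟩, fun ⟨R, hR⟩ => Subtype.ext (h R hR)⟩

/-- All semisimple elements fixing a point fix the same number of points. -/
theorem exists_fixed_count : ∃ c, (c = 1 ∨ c = 2) ∧
    ∀ x : H, Semi x → (∃ P : Sylow p H, x • P = P) →
      Nat.card {Q : Sylow p H // x • Q = Q} = c := by
  haveI := M.fin
  have hconj : ∀ g x : H, Nat.card {Q : Sylow p H // (g * x * g⁻¹) • Q = Q} =
      Nat.card {Q : Sylow p H // x • Q = Q} := fun g x => by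
    refine (Nat.card_congr ((MulAction.toPerm g).subtypeEquiv fun Q => ?_)).symm
    show x • Q = Q ↔ (g * x * g⁻¹) • g • Q = g • Q
    rw [mul_smul, mul_smul, inv_smul_smul, smul_left_cancel_iff]
  by_cases h : ∃ x : H, Semi x ∧ ∃ P : Sylow p H, x • P = P
  swap
  · exact ⟨1, Or.inl rfl, fun x hx hP => absurd ⟨x, hx, hP⟩ h⟩
  obtain ⟨x₀, hx₀, P₀, hP₀⟩ := h
  refine ⟨_, M.card_fixed hx₀ hP₀, fun x hx ⟨P, hP⟩ => ?_⟩
  obtain ⟨g, hg⟩ := MulAction.exists_smul_eq H P P₀
  have h0 : (g * x * g⁻¹) • P₀ = P₀ := by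
    rw [← hg, mul_smul, mul_smul, inv_smul_smul, hP]
  obtain ⟨u, a, ha, hans, e, -⟩ := (M.stabilizer_structure hx₀ hP₀).2 _ (semi_conj hx g) h0
  rw [← hconj g x, e, hconj]
  refine Nat.card_congr (Equiv.subtypeEquivRight fun Q => ?_)
  exact M.smul_iff_of_comm hx₀ hans ha Q

theorem sum_fixed {c : ℕ}
    (hc : ∀ x : H, Semi x → (∃ P : Sylow p H, x • P = P) →
      Nat.card {Q : Sylow p H // x • Q = Q} = c) (P : Sylow p H) :
    Nat.card (Sylow p H) * Nat.card (SemiAt P) =
      c * Nat.card {x : {x : H // Semi x} // ∃ Q : Sylow p H, x.1 • Q = Q} := by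
  haveI := M.fin
  classical
  haveI := Fintype.ofFinite (Sylow p H)
  haveI := Fintype.ofFinite {x : {x : H // Semi x} // ∃ Q : Sylow p H, x.1 • Q = Q}
  have e1 : Nat.card (Σ Q : Sylow p H, SemiAt Q) = Nat.card (Sylow p H) * Nat.card (SemiAt P) := by
    rw [Nat.card_sigma, Finset.sum_congr rfl fun Q _ => M.card_semiAt Q P, Finset.sum_const,
      Finset.card_univ, ← Nat.card_eq_fintype_card, smul_eq_mul]
  have e2 : Nat.card (Σ x : {x : {x : H // Semi x} // ∃ Q : Sylow p H, x.1 • Q = Q},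
      {Q : Sylow p H // x.1.1 • Q = Q}) =
      c * Nat.card {x : {x : H // Semi x} // ∃ Q : Sylow p H, x.1 • Q = Q} := by
    rw [Nat.card_sigma, Finset.sum_congr rfl fun x _ => hc _ x.1.2 x.2, Finset.sum_const,
      Finset.card_univ, ← Nat.card_eq_fintype_card, smul_eq_mul, mul_comm]
  rw [← e1, ← e2]
  exact Nat.card_congr
    { toFun := fun a => ⟨⟨⟨a.2.1, a.2.2.1⟩, a.1, a.2.2.2⟩, a.1, a.2.2.2⟩
      invFun := fun b => ⟨b.2.1, b.1.1.1, b.1.1.2, b.2.2⟩
      left_inv := fun _ => rfl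
      right_inv := fun _ => rfl }

/-- The union of the conjugates of the torus of a derangement. -/
theorem exists_conj_count {x : H} (hx : Semi x) (hfree : ∀ P : Sylow p H, x • P ≠ P) :
    ∃ (U : Set H) (k : ℕ), (k = Nat.card (cent x) ∨ k = 2 * Nat.card (cent x)) ∧
      k * Nat.card U + Nat.card H * Nat.card (scalars H) = Nat.card H * Nat.card (cent x) ∧
      (∀ y ∈ U, Semi y ∧ ∀ P : Sylow p H, y • P ≠ P) ∧
      (∀ y ∈ U, Nat.card (cent y) = Nat.card (cent x)) ∧
      (x ∈ U) ∧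
      (∀ y ∈ U, ∃ g a : H, a ∈ cent x ∧ ¬ IsScal (a : SL2) ∧ y = g * a * g⁻¹) ∧
      ∀ x' : H, Semi x' → x' ∉ U → ∀ (g a : H), a ∈ cent x' → ¬ IsScal (a : SL2) →
        g * a * g⁻¹ ∉ U := by
  haveI := M.fin
  classical
  have hxs := not_scal_of_semi hx
  let U : Set H := {y | ∃ h a : H, a ∈ cent x ∧ ¬ IsScal (a : SL2) ∧ y = h * a * h⁻¹}
  let K := Subgroup.normalizer ((cent x : Subgroup H) : Set H)
  have hK : ∀ n : H, ∀ a : H, a ∈ cent x → ¬ IsScal (a : SL2) → n * a * n⁻¹ ∈ cent x →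
      n ∈ K := by
    intro n a ha hans hn
    have hns : ¬ IsScal ((n * a * n⁻¹ : H) : SL2) := fun h => hans (by
      have h' : (n : SL2)⁻¹ * ((n * a * n⁻¹ : H) : SL2) * n = a := by
        show (n : SL2)⁻¹ * ((n : SL2) * a * (n : SL2)⁻¹) * n = a
        group
      rw [mul_assoc, IsScal.comm h, inv_mul_cancel_left] at h'
      exact h' ▸ h)
    have hmem : ∀ b : H, b ∈ cent x ↔ n * b * n⁻¹ ∈ cent x := by
      intro b
      constructor
      · intro hb
        rw [← M.cent_eq hx hans ha, M.mem_cent] at hb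
        rw [← M.cent_eq hx hns hn, M.mem_cent]
        calc n * b * n⁻¹ * (n * a * n⁻¹) = n * (b * a) * n⁻¹ := by group
          _ = _ := by rw [hb]; group
      · intro hb
        rw [← M.cent_eq hx hns hn, M.mem_cent] at hb
        rw [← M.cent_eq hx hans ha, M.mem_cent]
        calc b * a = n⁻¹ * (n * b * n⁻¹ * (n * a * n⁻¹)) * n := by group
          _ = a * b := by rw [hb]; group
    exact Subgroup.mem_normalizer_iff.mpr hmem
  have hcard : Nat.card K * Nat.card U = Nat.card H * Nat.card {a : cent x // ¬ IsScal ((a : H) : SL2)} := by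
    rw [← Nat.card_prod, ← Nat.card_prod]
    have hsel : ∀ y : U, ∃ h a : H, a ∈ cent x ∧ ¬ IsScal (a : SL2) ∧ (y : H) = h * a * h⁻¹ :=
      fun y => y.2
    choose hh aa haa hans he using hsel
    have hmove : ∀ (n : K) (y : U), (n : H)⁻¹ * aa y * n ∈ cent x := fun n y => by
      simpa using (Subgroup.mem_normalizer_iff.mp (inv_mem n.2) (aa y)).mp (haa y)
    refine Nat.card_congr (Equiv.ofBijective (fun b : K × U =>
      ((hh b.2 * b.1, ⟨⟨(b.1 : H)⁻¹ * aa b.2 * b.1, hmove b.1 b.2⟩, fun h => hans b.2 (by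
        have h' : (aa b.2 : SL2) = (b.1 : H) * (((b.1 : H)⁻¹ * aa b.2 * b.1 : H) : SL2) * ((b.1 : H) : SL2)⁻¹ := by
          show _ = ((b.1 : H) : SL2) * (((b.1 : H) : SL2)⁻¹ * (aa b.2 : SL2) * ((b.1 : H) : SL2)) * _
          group
        rw [h', mul_assoc, IsScal.comm h, mul_inv_cancel_left]
        exact h)⟩) : H × {a : cent x // ¬ IsScal ((a : H) : SL2)})) ⟨?_, ?_⟩)
    · rintro ⟨n, y⟩ ⟨n', y'⟩ e
      simp only [Prod.mk.injEq, Subtype.mk.injEq] at e
      obtain ⟨e1, e2⟩ := e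
      have hy : y = y' := Subtype.ext (by
        rw [he y, he y']
        calc hh y * aa y * (hh y)⁻¹ = (hh y * n) * ((n : H)⁻¹ * aa y * n) * (hh y * n)⁻¹ := by group
          _ = _ := by rw [e1, e2]; group)
      subst hy
      rw [Prod.mk.injEq]
      exact ⟨Subtype.ext (mul_left_cancel e1), rfl⟩
    · rintro ⟨h, ⟨a, ha⟩, hans'⟩
      let y : U := ⟨h * a * h⁻¹, h, a, ha, hans', rfl⟩
      have hn : (hh y)⁻¹ * h ∈ K := hK _ a ha hans' (by
        have e : (hh y)⁻¹ * h * a * ((hh y)⁻¹ * h)⁻¹ = aa y := by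
          calc (hh y)⁻¹ * h * a * ((hh y)⁻¹ * h)⁻¹ = (hh y)⁻¹ * (h * a * h⁻¹) * hh y := by group
            _ = (hh y)⁻¹ * (hh y * aa y * (hh y)⁻¹) * hh y := by rw [← he y]
            _ = aa y := by group
        rw [e]
        exact haa y)
      refine ⟨(⟨_, hn⟩, y), ?_⟩
      simp only [Prod.mk.injEq, Subtype.mk.injEq, mul_inv_cancel_left, true_and]
      calc ((hh y)⁻¹ * h)⁻¹ * aa y * ((hh y)⁻¹ * h) = h⁻¹ * (hh y * aa y * (hh y)⁻¹) * h := by group
        _ = h⁻¹ * (h * a * h⁻¹) * h := by rw [← he y]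
        _ = a := by group
  have hsplit : Nat.card {a : cent x // ¬ IsScal ((a : H) : SL2)} + Nat.card (scalars H) =
      Nat.card (cent x) := by
    rw [← Nat.card_congr (Subgroup.subgroupOfEquivOfLe (M.scalars_le_cent x)).toEquiv, add_comm,
      ← Nat.card_sum]
    exact Nat.card_congr (Equiv.sumCompl fun a : cent x => IsScal ((a : H) : SL2))
  -- the normalizer
  have htors : ∀ n ∈ K, n * x * n⁻¹ = x ∨ n * x * n⁻¹ = x⁻¹ := by
    intro n hn
    have h := M.mem_cent.mp ((Subgroup.mem_normalizer_iff.mp hn x).mp (M.mem_cent.mpr rfl))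
    have h2 := two_ne_zero' (F := F) M.odd
    rcases eq_or_inv_of_comm h2 hx.1 hx.2 (tr_conj (n : SL2) x) (congrArg Subtype.val h) with e | e
    · exact Or.inl (Subtype.ext e)
    · exact Or.inr (Subtype.ext e)
  have hcK : cent x ≤ K := Subgroup.le_normalizer
  have hk : Nat.card K = Nat.card (cent x) ∨ Nat.card K = 2 * Nat.card (cent x) := by
    by_cases h0 : ∃ n ∈ K, n * x * n⁻¹ = x⁻¹
    · obtain ⟨n₀, hn₀, e₀⟩ := h0
      right
      refine Eq.trans ?_ ((Nat.card_prod Bool (cent x)).trans (by simp))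
      have hxx : x⁻¹ ≠ x := fun e => hxs (isScal_of_sq M.odd (congrArg Subtype.val
        (show x * x = 1 by nth_rw 1 [← e]; exact inv_mul_cancel x)))
      refine (Nat.card_congr (Equiv.ofBijective (fun b : Bool × cent x =>
        ((⟨bif b.1 then n₀ * b.2 else b.2, by
          cases b.1
          · exact hcK b.2.2
          · exact mul_mem hn₀ (hcK b.2.2)⟩) : K)) ⟨?_, ?_⟩)).symm
      · have hno : ∀ a : cent x, n₀ * a ∉ cent x := fun a ha => hxx (by
          have h1 : n₀ ∈ cent x := by simpa using mul_mem ha (inv_mem a.2)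
          rw [← e₀, M.mem_cent.mp h1, mul_inv_cancel_right])
        rintro ⟨b, a⟩ ⟨b', a'⟩ e
        have e' := congrArg Subtype.val e
        cases b <;> cases b' <;> simp only [cond_true, cond_false] at e'
        · rw [Subtype.ext e']
        · exact absurd (e' ▸ a.2) (hno a')
        · exact absurd (e'.symm ▸ a'.2) (hno a)
        · rw [Subtype.ext (mul_left_cancel e')]
      · rintro ⟨n, hn⟩
        rcases htors n hn with e | e
        · exact ⟨(false, ⟨n, M.mem_cent.mpr (mul_inv_eq_iff_eq_mul.mp e)⟩), rfl⟩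
        · refine ⟨(true, ⟨n₀⁻¹ * n, M.mem_cent.mpr ?_⟩), Subtype.ext (mul_inv_cancel_left n₀ n)⟩
          calc n₀⁻¹ * n * x = n₀⁻¹ * (n * x * n⁻¹) * n := by group
            _ = x * (n₀⁻¹ * n) := by rw [e, ← e₀]; group
    · left
      push Not at h0
      refine le_antisymm (Subgroup.card_le_of_le fun n hn => M.mem_cent.mpr ?_)
        (Subgroup.card_le_of_le hcK)
      exact mul_inv_eq_iff_eq_mul.mp ((htors n hn).resolve_right (h0 n hn))
  refine ⟨U, Nat.card K, hk, ?_, ?_, ?_, ⟨1, x, M.mem_cent.mpr rfl, hxs, by simp⟩, fun _ hy => hy, ?_⟩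
  · rw [hcard, ← mul_add, hsplit]
  · rintro y ⟨h, a, ha, hans, rfl⟩
    refine ⟨semi_conj (semi_of_comm hx hans (M.mem_cent.mp ha)) h, fun P hP => ?_⟩
    refine hfree (h⁻¹ • P) ((M.smul_iff_of_comm hx hans ha _).mp ?_)
    have h1 := congrArg (h⁻¹ • ·) hP
    simp only [mul_smul, inv_smul_smul] at h1
    exact h1
  · rintro y ⟨h, a, ha, hans, rfl⟩
    rw [← M.cent_eq hx hans ha]
    refine (Nat.card_congr ((MulAut.conj h).toEquiv.subtypeEquiv fun b => ?_)).symm
    show b ∈ cent a ↔ h * b * h⁻¹ ∈ cent (h * a * h⁻¹)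
    rw [M.mem_cent, M.mem_cent]
    constructor
    · intro hb
      calc h * b * h⁻¹ * (h * a * h⁻¹) = h * (b * a) * h⁻¹ := by group
        _ = _ := by rw [hb]; group
    · intro hb
      calc b * a = h⁻¹ * (h * b * h⁻¹ * (h * a * h⁻¹)) * h := by group
        _ = a * b := by rw [hb]; group
  · rintro x' hx' hnot g a ha hans ⟨h, b, hb, hbns, e⟩
    apply hnot
    refine ⟨g⁻¹ * h, (g⁻¹ * h)⁻¹ * x' * (g⁻¹ * h), ?_, fun hs => not_scal_of_semi hx' ?_, by group⟩
    · rw [← M.cent_eq hx hbns hb, M.mem_cent]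
      have hab : a = (g⁻¹ * h) * b * (g⁻¹ * h)⁻¹ := by
        calc a = g⁻¹ * (g * a * g⁻¹) * g := by group
          _ = _ := by rw [e]; group
      have hxa := (M.mem_cent.mp ha).symm
      calc (g⁻¹ * h)⁻¹ * x' * (g⁻¹ * h) * b
          = (g⁻¹ * h)⁻¹ * (x' * a) * (g⁻¹ * h) := by rw [hab]; group
        _ = _ := by rw [hxa, hab]; group
    · set t := g⁻¹ * h
      have e' : (x' : SL2) = (t : SL2) * ((t⁻¹ * x' * t : H) : SL2) * (t : SL2)⁻¹ := by
        show _ = (t : SL2) * ((t : SL2)⁻¹ * x' * t) * _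
        group
      rw [e', mul_assoc, IsScal.comm hs, mul_inv_cancel_left]
      exact hs

end Multi

end Cfsg.Lib.SLTwoSub
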