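import Cfsg.Agent.Quadratic.Thompson
import Cfsg.Prelude.Def_Local
import Cfsg.Agent.SolvStruct.CoprimeOrbits

/-!
`SL₂(p)` is not `p`-solvable for `p ≥ 5`; quadratic action in a `p`-solvable group.
-/

set_option autoImplicit false
set_option linter.style.haveILetI false
set_option linter.unnecessarySeqFocus false

namespace Cfsg.Lib.QuadPair

open Matrix

variable {p : ℕ} [hp : Fact p.Prime]

theorem pSolvable_of_surjective {A : Type*} [Group A] [Finite A] {B : Type*} [Group B] {f : A →* B}
    (hf : Function.Surjective f) (h : Cfsg.IsPSolvable p A) : Cfsg.IsPSolvable p B := by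
  obtain ⟨n, K, h0, hl, hmono, hn, hstep⟩ := h
  refine ⟨n, fun i => (K i).map f, by simp only [h0, Subgroup.map_bot],
    by simp only [hl, Subgroup.map_top_of_surjective f hf], fun i j hij => Subgroup.map_mono (hmono hij),
    fun i => (hn i).map f hf, fun i => ?_⟩
  have hdvd : ((K i.castSucc).map f).relIndex ((K i.succ).map f) ∣ (K i.castSucc).relIndex (K i.succ) := by
    haveI := hn i.castSucc
    rw [← Subgroup.relIndex_comap, Subgroup.comap_map_eq]
    exact Subgroup.relIndex_dvd_of_le_left _ le_sup_left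
  rcases hstep i with ⟨m, hm⟩ | hc
  · obtain ⟨k, -, hk⟩ := (Nat.dvd_prime_pow hp.out).mp (hm ▸ hdvd)
    exact Or.inl ⟨k, hk⟩
  · exact Or.inr (hc.coprime_dvd_left hdvd)

theorem eq_three_of_pSolvable (hp2 : p ≠ 2)
    (h : Cfsg.IsPSolvable p (Matrix.SpecialLinearGroup (Fin 2) (ZMod p))) : p = 3 := by
  by_contra hp3
  obtain ⟨n, H, h0, hl, hmono, hn, hstep⟩ := h
  have key : ∀ i : Fin (n + 1), H i ≠ ⊤ := by
    intro i
    induction i using Fin.induction with
    | zero =>
      rw [h0]
      intro e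
      let u : Matrix.SpecialLinearGroup (Fin 2) (ZMod p) := ⟨!![1, 1; 0, 1], by simp [det_fin_two]⟩
      have h1 : u = 1 := Subgroup.mem_bot.1 (e ▸ Subgroup.mem_top u)
      have h2 : u.1 0 1 = (1 : Matrix.SpecialLinearGroup (Fin 2) (ZMod p)).1 0 1 := by rw [h1]
      simp [u] at h2
    | succ i ih =>
      intro e
      refine ih ?_
      haveI := hn i.castSucc
      have hs := hstep i
      rw [e, Subgroup.relIndex_top_right] at hs
      set N := H i.castSucc
      have h3 : (3 : ZMod p) ≠ 0 := fun h => hp3 ((Nat.prime_dvd_prime_iff_eq hp.out Nat.prime_three).1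
        ((ZMod.natCast_eq_zero_iff 3 p).1 (by exact_mod_cast h)))
      have h2 : (2 : ZMod p) ≠ 0 := fun h => hp2 ((Nat.prime_dvd_prime_iff_eq hp.out Nat.prime_two).1
        ((ZMod.natCast_eq_zero_iff 2 p).1 (by exact_mod_cast h)))
      let d : Matrix.SpecialLinearGroup (Fin 2) (ZMod p) :=
        ⟨!![2, 0; 0, (2 : ZMod p)⁻¹], by simp [det_fin_two, h2]⟩
      have hker : ∀ g : Matrix.SpecialLinearGroup (Fin 2) (ZMod p), ∀ m : ℕ, g ^ m = 1 → m.Coprime N.index →
          g ∈ N := fun g m hm hc => by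
        rw [← QuotientGroup.eq_one_iff]
        refine orderOf_eq_one_iff.1 (Nat.eq_one_of_dvd_coprimes hc (orderOf_dvd_of_pow_eq_one ?_) ?_)
        · rw [← QuotientGroup.mk_pow, hm, QuotientGroup.mk_one]
        · rw [Subgroup.index_eq_card]; exact orderOf_dvd_natCard _
      have hd : ∀ k : ℕ, ((d ^ k).1 : Matrix (Fin 2) (Fin 2) (ZMod p)) = !![2 ^ k, 0; 0, (2⁻¹) ^ k] := by
        intro k
        induction k with
        | zero => simp [Matrix.one_fin_two]
        | succ k ih =>
          rw [pow_succ, Matrix.SpecialLinearGroup.coe_mul, ih]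
          simp [d, pow_succ]
      refine SLTwoSub.closure_transvections N (fun g hg => ?_) (fun g hg => ?_)
      all_goals
        rcases hs with ⟨m, hm⟩ | hm
      rotate_left
      · refine hker g p ?_ hm.symm
        exact SLTwoSub.pow_prime_of_tr (by unfold SLTwoSub.tr; rw [hg]; simp; norm_num)
      rotate_left
      · refine hker g p ?_ hm.symm
        exact SLTwoSub.pow_prime_of_tr (by unfold SLTwoSub.tr; rw [hg]; simp; norm_num)
      all_goals
        have hdN : d ∈ N := hker d (p - 1) (Subtype.ext (by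
          rw [hd, ZMod.pow_card_sub_one_eq_one h2, ZMod.pow_card_sub_one_eq_one (inv_ne_zero h2),
            Matrix.SpecialLinearGroup.coe_one, Matrix.one_fin_two])) (by
          rw [hm]
          exact Nat.Coprime.pow_right m ((Nat.coprime_self_sub_left hp.out.one_le).2 (Nat.coprime_one_left p)))
      · let u : Matrix.SpecialLinearGroup (Fin 2) (ZMod p) := ⟨!![1, (3 : ZMod p)⁻¹; 0, 1], by simp [det_fin_two]⟩
        have he : g = d * (u * d⁻¹ * u⁻¹) := Subtype.ext (by
          rw [hg, Matrix.SpecialLinearGroup.coe_mul, Matrix.SpecialLinearGroup.coe_mul,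
            Matrix.SpecialLinearGroup.coe_mul, Matrix.SpecialLinearGroup.coe_inv,
            Matrix.SpecialLinearGroup.coe_inv, Matrix.adjugate_fin_two, Matrix.adjugate_fin_two]
          ext i j
          fin_cases i <;> fin_cases j <;> simp [d, u, Matrix.mul_apply, Fin.sum_univ_two] <;> field_simp <;>
            norm_num)
        rw [he]
        exact mul_mem hdN ((hn i.castSucc).conj_mem _ (inv_mem hdN) u)
      · let u : Matrix.SpecialLinearGroup (Fin 2) (ZMod p) :=
          ⟨!![1, 0; -(4 : ZMod p) * (3 : ZMod p)⁻¹, 1], by simp [det_fin_two]⟩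
        have he : g = d * (u * d⁻¹ * u⁻¹) := Subtype.ext (by
          rw [hg, Matrix.SpecialLinearGroup.coe_mul, Matrix.SpecialLinearGroup.coe_mul,
            Matrix.SpecialLinearGroup.coe_mul, Matrix.SpecialLinearGroup.coe_inv,
            Matrix.SpecialLinearGroup.coe_inv, Matrix.adjugate_fin_two, Matrix.adjugate_fin_two]
          ext i j
          fin_cases i <;> fin_cases j <;> simp [d, u, Matrix.mul_apply, Fin.sum_univ_two] <;> field_simp <;>
            norm_num)
        rw [he]
        exact mul_mem hdN ((hn i.castSucc).conj_mem _ (inv_mem hdN) u)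
  exact key (Fin.last n) hl

variable {G : Type*} [Group G] [Finite G]

/-- **Thompson**: quadratic action in a `p`-solvable group gives `p = 3` and a section `SL₂(3)`. -/
theorem section_of_pSolvable (hp2 : p ≠ 2) {V H : Subgroup G} (hV : Cfsg.IsElementaryAbelian p V)
    (hHV : H ≤ Subgroup.normalizer (V : Set G)) (hf : H ⊓ Subgroup.centralizer (V : Set G) = ⊥)
    (hsep : Cfsg.IsPSolvable p H) {a : G} (haH : a ∈ H)
    (hq : ⁅⁅V, Subgroup.zpowers a⁆, Subgroup.zpowers a⁆ = ⊥) (hna : a ∉ (Cfsg.pCore p H).map H.subtype) :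
    p = 3 ∧ ∃ (K L : Subgroup G) (_hL : (L.subgroupOf K).Normal), K ≤ H ∧
      Nonempty ((K ⧸ L.subgroupOf K) ≃* Matrix.SpecialLinearGroup (Fin 2) (ZMod 3)) := by
  obtain ⟨K, f, hK, hf'⟩ := exists_section_of_notMem_pCore hp2 hV hHV hf haH hq hna
  have hKsol : Cfsg.IsPSolvable p (K.subgroupOf H) :=
    Cfsg.Lib.SolvStruct.CoprimeOrbits.isPSolvable_subgroup hsep hp.out _
  have h3 := eq_three_of_pSolvable hp2 (pSolvable_of_surjective
    (f := f.comp (Subgroup.subgroupOfEquivOfLe hK).toMonoidHom)
    (hf'.comp (Subgroup.subgroupOfEquivOfLe hK).surjective) hKsol)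
  subst h3
  obtain ⟨L, hL, e⟩ := exists_section_of_surjective hf'
  exact ⟨rfl, K, L, hL, hK, e⟩

end Cfsg.Lib.QuadPair
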