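import Cfsg.Agent.Quadratic.SLTwoAlgebra
import Mathlib.GroupTheory.Sylow
import Mathlib.GroupTheory.GroupAction.Quotient

/-!
A finite subgroup of `SL₂(F)` with several Sylow `p`-subgroups, `p` odd the characteristic: the
Sylow subgroups as points, and the elements by their fixed points.
-/

set_option autoImplicit false

namespace Cfsg.Lib.SLTwoSub

open Matrix

variable {F : Type*} [Field F] {p : ℕ} [Fact p.Prime] [CharP F p]

local notation "SL2" => Matrix.SpecialLinearGroup (Fin 2) F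

/-- If all stabilizers agree, their index divides the number of points. -/
theorem dvd_card_of_stabilizer {A X : Type*} [Group A] [MulAction A X] [Finite X]
    (K : Subgroup A) (h : ∀ x : X, MulAction.stabilizer A x = K) : K.index ∣ Nat.card X := by
  classical
  haveI := Fintype.ofFinite X
  haveI : Fintype (MulAction.orbitRel.Quotient A X) := Fintype.ofFinite _
  rw [Nat.card_congr (MulAction.selfEquivSigmaOrbits A X), Nat.card_sigma]
  refine Finset.dvd_sum fun ω _ => ?_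
  rw [Nat.card_coe_set_eq, ← MulAction.index_stabilizer, h]

variable {H : Subgroup (Matrix.SpecialLinearGroup (Fin 2) F)}

/-- The scalar elements of `H`. -/
def scalars (H : Subgroup SL2) : Subgroup H where
  carrier := {x | IsScal (x : SL2)}
  one_mem' := isScal_one
  mul_mem' := fun ha hb => IsScal.mul ha hb
  inv_mem' := fun ha => IsScal.inv ha

/-- The semisimple regular elements. -/
def Semi (x : H) : Prop := tr (x : SL2) ≠ 2 ∧ tr (x : SL2) ≠ -2

theorem mem_scalars {x : H} : x ∈ scalars H ↔ IsScal (x : SL2) := Iff.rfl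

theorem scalars_comm {z : H} (hz : z ∈ scalars H) (x : H) : z * x = x * z :=
  Subtype.ext (IsScal.comm hz _)

theorem tr_scal_mul {z : SL2} (hz : IsScal z) (x : SL2) : tr (z * x) = z.1 0 0 * tr x := by
  obtain ⟨h1, h2, h3⟩ := hz
  unfold tr
  rw [mul_entries, mul_entries, h1, h2, h3]
  ring

theorem tr_of_scal {z : SL2} (hz : IsScal z) : tr z = 2 ∨ tr z = -2 := by
  unfold tr
  rcases hz.eq_or with e | e <;> rw [← hz.2.2, e]
  · left; norm_num
  · right; norm_num

theorem not_scal_of_semi {x : H} (h : Semi x) : ¬ IsScal (x : SL2) := fun hs =>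
  (tr_of_scal hs).elim h.1 h.2

theorem eq_one_of_scal_tr (hp : p ≠ 2) {z : SL2} (hz : IsScal z) (h : tr z = 2) : z = 1 := by
  refine hz.ext isScal_one ?_
  rcases hz.eq_or with e | e
  · rw [e]; simp
  · refine absurd ?_ (mul_ne_zero (two_ne_zero' (F := F) hp) (two_ne_zero' (F := F) hp))
    unfold tr at h
    rw [← hz.2.2, e] at h
    linear_combination -h

theorem semi_of_comm {x y : H} (hx : Semi x) (hy : ¬ IsScal (y : SL2)) (hc : y * x = x * y) :
    Semi y := by
  have hc' : (x : SL2) * y = y * x := congrArg Subtype.val hc.symm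
  refine ⟨fun h => (tr_sq_of_comm hy h hc').elim hx.1 hx.2, fun h => ?_⟩
  -- the linear combination has equal eigenvalues as well
  obtain ⟨α, β, h0, h1, h2, h3⟩ := exists_lin hy hc'
  have hd := det_eq (x : SL2)
  have hd' := det_eq (y : SL2)
  unfold tr at h
  have ht1 := hx.1
  have ht2 := hx.2
  unfold tr at ht1 ht2
  rw [h0, h1, h2, h3] at hd
  rw [h0, h3] at ht1 ht2
  have e : (β - α) * (β - α) = 1 := by linear_combination hd - α * α * hd' - α * β * h
  rcases mul_self_eq_one_iff.mp e with e' | e'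
  · exact ht1 (by linear_combination α * h + 2 * e')
  · exact ht2 (by linear_combination α * h + 2 * e')

theorem semi_conj {x : H} (hx : Semi x) (h : H) : Semi (h * x * h⁻¹) := by
  have e : tr ((h * x * h⁻¹ : H) : SL2) = tr (x : SL2) := tr_conj (h : SL2) x
  unfold Semi
  rwa [e]

theorem exists_smul_of_dep {v w : Fin 2 → F} (hv : v ≠ 0) (h : dep v w = 0) : ∃ c : F, w = c • v := by
  unfold dep at h
  by_cases h0 : v 0 = 0
  · have h1 : v 1 ≠ 0 := fun e => hv (funext fun i => by fin_cases i <;> assumption)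
    refine ⟨w 1 / v 1, funext fun i => ?_⟩
    fin_cases i <;> simp only [Pi.smul_apply, smul_eq_mul]
    · show w 0 = w 1 / v 1 * v 0
      rw [h0, mul_zero]
      rw [h0, zero_mul, zero_sub, neg_eq_zero] at h
      exact (mul_eq_zero.mp h).resolve_left h1
    · exact (div_mul_cancel₀ _ h1).symm
  · refine ⟨w 0 / v 0, funext fun i => ?_⟩
    fin_cases i <;> simp only [Pi.smul_apply, smul_eq_mul]
    · exact (div_mul_cancel₀ _ h0).symm
    · show w 1 = w 0 / v 0 * v 1
      field_simp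
      linear_combination h

/-- The standing hypothesis: `H` is finite with several Sylow `p`-subgroups, `p` odd. -/
structure Multi (H : Subgroup SL2) (p : ℕ) : Prop where
  odd : p ≠ 2
  fin : Finite H
  many : 1 < Nat.card (Sylow p H)

namespace Multi

variable (M : Multi H p)
include M

theorem ne_bot (P : Sylow p H) : (P : Subgroup H) ≠ ⊥ := by
  haveI := M.fin
  intro h
  haveI : Nontrivial (Sylow p H) := Finite.one_lt_card_iff_nontrivial.mp M.many
  obtain ⟨Q, hQ⟩ := exists_ne P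
  refine hQ (Sylow.ext (((Subgroup.card_eq_one).mp ?_).trans h.symm))
  rw [Q.card_eq_multiplicity, ← P.card_eq_multiplicity, h, Subgroup.card_bot]

theorem tr_of_mem {P : Sylow p H} {u : H} (hu : u ∈ (P : Subgroup H)) : tr (u : SL2) = 2 := by
  obtain ⟨k, hk⟩ := P.2 ⟨u, hu⟩
  refine tr_of_pow (p := p) (k := k) ?_
  exact congrArg (fun a : (P : Subgroup H) => ((a : H) : SL2)) hk

theorem not_scal_of_mem {P : Sylow p H} {u : H} (hu : u ∈ (P : Subgroup H)) (h1 : u ≠ 1) :
    ¬ IsScal (u : SL2) := fun h =>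
  h1 (Subtype.ext (eq_one_of_scal_tr M.odd h (M.tr_of_mem hu)))

theorem exists_vec (P : Sylow p H) :
    ∃ v : Fin 2 → F, v ≠ 0 ∧ ∀ u ∈ (P : Subgroup H), (u : SL2).1 *ᵥ v = v := by
  haveI := M.fin
  haveI : Nontrivial (P : Subgroup H) := (Subgroup.nontrivial_iff_ne_bot _).mpr (M.ne_bot P)
  haveI := P.2.center_nontrivial
  obtain ⟨⟨⟨u, hu⟩, huc⟩, hu1⟩ := exists_ne (1 : Subgroup.center (P : Subgroup H))
  have hu1' : u ≠ 1 := fun h => hu1 (Subtype.ext (Subtype.ext h))
  obtain ⟨v, hv, huv⟩ := exists_fix_of_tr (M.tr_of_mem hu)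
  refine ⟨v, hv, fun y hy => eigen_one_of_tr (M.tr_of_mem hy) hv
    (fixes_of_comm (M.not_scal_of_mem hu hu1') ?_ ⟨1, by rw [huv, one_smul]⟩)⟩
  exact congrArg (fun a : (P : Subgroup H) => ((a : H) : SL2)) (Subgroup.mem_center_iff.mp huc ⟨y, hy⟩)

/-- The fixed vector of a Sylow subgroup. -/
noncomputable def vec (P : Sylow p H) : Fin 2 → F := Classical.choose (M.exists_vec P)

theorem vec_ne (P : Sylow p H) : M.vec P ≠ 0 := (Classical.choose_spec (M.exists_vec P)).1

theorem mem_iff {P : Sylow p H} {x : H} :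
    x ∈ (P : Subgroup H) ↔ (x : SL2).1 *ᵥ M.vec P = M.vec P := by
  refine ⟨(Classical.choose_spec (M.exists_vec P)).2 x, fun hx => ?_⟩
  let K : Subgroup H :=
    { carrier := {y | (y : SL2).1 *ᵥ M.vec P = M.vec P}
      one_mem' := by simp
      mul_mem' := fun {a b} (ha : (a : SL2).1 *ᵥ M.vec P = M.vec P)
        (hb : (b : SL2).1 *ᵥ M.vec P = M.vec P) => show ((a : SL2).1 * (b : SL2).1) *ᵥ _ = _ by
          rw [← mulVec_mulVec, hb, ha]
      inv_mem' := fun {a} (ha : (a : SL2).1 *ᵥ M.vec P = M.vec P) =>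
        show ((a : SL2)⁻¹).1 *ᵥ M.vec P = M.vec P by
          conv_lhs => rw [← ha]
          rw [mulVec_mulVec, show ((a : SL2)⁻¹).1 * (a : SL2).1 = 1 from
            congrArg Subtype.val (inv_mul_cancel (a : SL2)), one_mulVec] }
  have hK : IsPGroup p K := fun a => ⟨1, Subtype.ext (Subtype.ext (by
    simpa using pow_prime_of_tr (p := p) (tr_eq_two_of_fix (M.vec_ne P) a.2)))⟩
  have e : K = P := P.3 hK fun u hu => (Classical.choose_spec (M.exists_vec P)).2 u hu
  exact e ▸ (show x ∈ K from hx)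

theorem dep_vec_fix {P : Sylow p H} {u : H} (hu : u ∈ (P : Subgroup H)) (h1 : u ≠ 1)
    {w : Fin 2 → F} (hw : w ≠ 0) (hf : Fixes (u : SL2) w) : dep (M.vec P) w = 0 :=
  dep_eq_zero_of_eigen (M.not_scal_of_mem hu h1) (c := (1 : F)) (by rw [one_smul, M.mem_iff.mp hu])
    (by rw [one_smul, eigen_one_of_tr (M.tr_of_mem hu) hw hf])

theorem dep_ne {P Q : Sylow p H} (h : P ≠ Q) : dep (M.vec P) (M.vec Q) ≠ 0 := by
  intro e
  obtain ⟨c, hc⟩ := exists_smul_of_dep (M.vec_ne P) e
  refine h (Sylow.ext (P.3 Q.2 fun u hu => M.mem_iff.mpr ?_).symm)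
  rw [hc, mulVec_smul, M.mem_iff.mp hu]

theorem exists_mem_ne (P : Sylow p H) : ∃ u ∈ (P : Subgroup H), u ≠ 1 := by
  by_contra h
  push Not at h
  exact M.ne_bot P ((Subgroup.eq_bot_iff_forall _).mpr h)

theorem smul_iff {P : Sylow p H} {x : H} : x • P = P ↔ Fixes (x : SL2) (M.vec P) := by
  haveI := M.fin
  rw [Sylow.smul_eq_iff_mem_normalizer]
  constructor
  · intro hx
    obtain ⟨u, hu, hu1⟩ := M.exists_mem_ne P
    have h2 : x⁻¹ * u * x ∈ (P : Subgroup H) := by
      simpa using (Subgroup.mem_normalizer_iff.mp (inv_mem hx) u).mp hu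
    set v := M.vec P
    have h3 : (u : SL2).1 *ᵥ ((x : SL2).1 *ᵥ v) = (x : SL2).1 *ᵥ v := by
      have h4 := congrArg ((x : SL2).1 *ᵥ ·) (M.mem_iff.mp h2)
      rw [mulVec_mulVec] at h4
      rw [mulVec_mulVec]
      refine Eq.trans (congrArg (· *ᵥ v) ?_) h4
      exact congrArg (fun a : H => (a : SL2).1) (show u * x = x * (x⁻¹ * u * x) by group)
    have hne : (x : SL2).1 *ᵥ v ≠ 0 := fun e => M.vec_ne P (by
      have := congrArg (((x : SL2)⁻¹).1 *ᵥ ·) e
      simp only [mulVec_mulVec, mulVec_zero] at this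
      rwa [show ((x : SL2)⁻¹).1 * (x : SL2).1 = 1 from
        congrArg Subtype.val (inv_mul_cancel (x : SL2)), one_mulVec] at this)
    obtain ⟨c, hc⟩ := exists_smul_of_dep (M.vec_ne P)
      (M.dep_vec_fix hu hu1 hne ⟨1, by rw [h3, one_smul]⟩)
    exact ⟨c, hc⟩
  · rintro ⟨c, hc⟩
    have key : ∀ u ∈ (P : Subgroup H), x * u * x⁻¹ ∈ (P : Subgroup H) := fun u hu => by
      rw [M.mem_iff]
      show ((x : SL2).1 * (u : SL2).1 * ((x : SL2)⁻¹).1) *ᵥ M.vec P = M.vec P
      have hc0 : c ≠ 0 := fun e => M.vec_ne P (by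
        have := congrArg (((x : SL2)⁻¹).1 *ᵥ ·) hc
        simp only [mulVec_mulVec, e, zero_smul, mulVec_zero] at this
        rwa [show ((x : SL2)⁻¹).1 * (x : SL2).1 = 1 from
          congrArg Subtype.val (inv_mul_cancel (x : SL2)), one_mulVec] at this)
      have hi : ((x : SL2)⁻¹).1 *ᵥ M.vec P = c⁻¹ • M.vec P := by
        have := congrArg (((x : SL2)⁻¹).1 *ᵥ ·) hc
        simp only [mulVec_mulVec, mulVec_smul] at this
        rw [show ((x : SL2)⁻¹).1 * (x : SL2).1 = 1 from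
          congrArg Subtype.val (inv_mul_cancel (x : SL2)), one_mulVec] at this
        rw [eq_inv_smul_iff₀ hc0]
        exact this.symm
      rw [← mulVec_mulVec, ← mulVec_mulVec, hi, mulVec_smul, M.mem_iff.mp hu, mulVec_smul, hc,
        smul_smul, inv_mul_cancel₀ hc0, one_smul]
    have e : (P : Subgroup H).map (MulAut.conj x).toMonoidHom = P :=
      Subgroup.eq_of_le_of_card_ge (Subgroup.map_le_iff_le_comap.mpr key)
        (Subgroup.card_map_of_injective (MulAut.conj x).injective).ge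
    refine Subgroup.mem_normalizer_iff.mpr fun u => ⟨key u, fun hu => ?_⟩
    rw [← e] at hu
    obtain ⟨w, hw, ew⟩ := hu
    have : w = u := (MulAut.conj x).injective ew
    exact this ▸ hw

theorem smul_of_scal {z : H} (hz : z ∈ scalars H) (P : Sylow p H) : z • P = P :=
  M.smul_iff.mpr (IsScal.fixes hz _)

theorem smul_of_comm {x y : H} (hy : ¬ IsScal (y : SL2)) (hc : x * y = y * x) {P : Sylow p H}
    (h : y • P = P) : x • P = P :=
  M.smul_iff.mpr (fixes_of_comm hy (congrArg Subtype.val hc) (M.smul_iff.mp h))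

theorem scal_of_three {x : H} {P Q R : Sylow p H} (hPQ : P ≠ Q) (hPR : P ≠ R) (hQR : Q ≠ R)
    (hP : x • P = P) (hQ : x • Q = Q) (hR : x • R = R) : IsScal (x : SL2) :=
  isScal_of_three (M.dep_ne hQR) (M.dep_ne hPQ) (M.dep_ne hPR) (M.smul_iff.mp hP)
    (M.smul_iff.mp hQ) (M.smul_iff.mp hR)

theorem eq_of_unipotent {P Q : Sylow p H} {u : H} (hu : u ∈ (P : Subgroup H)) (h1 : u ≠ 1)
    (h : u • Q = Q) : Q = P := by
  by_contra hne
  exact M.dep_ne (Ne.symm hne) (M.dep_vec_fix hu h1 (M.vec_ne Q) (M.smul_iff.mp h))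

theorem eq_of_mem {P Q : Sylow p H} {u : H} (hu : u ∈ (P : Subgroup H)) (h1 : u ≠ 1)
    (h : u ∈ (Q : Subgroup H)) : Q = P :=
  M.eq_of_unipotent hu h1 (M.smul_iff.mpr ⟨1, by rw [M.mem_iff.mp h, one_smul]⟩)

theorem smul_self_mem {P : Sylow p H} {u : H} (hu : u ∈ (P : Subgroup H)) : u • P = P :=
  M.smul_iff.mpr ⟨1, by rw [M.mem_iff.mp hu, one_smul]⟩

theorem card_sylow_eq (P Q : Sylow p H) :
    Nat.card (P : Subgroup H) = Nat.card (Q : Subgroup H) := by
  haveI := M.fin
  exact P.card_eq_multiplicity.trans Q.card_eq_multiplicity.symm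

theorem three_le_card (P : Sylow p H) : 3 ≤ Nat.card (P : Subgroup H) := by
  haveI := M.fin
  obtain ⟨k, hk⟩ := IsPGroup.iff_card.mp P.2
  have hp3 : 3 ≤ p := Nat.succ_le_of_lt (lt_of_le_of_ne (Fact.out : p.Prime).two_le M.odd.symm)
  rcases k with _ | k
  · exact absurd (Subgroup.card_eq_one.mp (by rw [hk, pow_zero])) (M.ne_bot P)
  · rw [hk]
    exact hp3.trans (Nat.le_self_pow (Nat.succ_ne_zero k) p)

/-- The unique decomposition of an element of trace `±2`. -/
theorem exists_scal_mul {x : H} (h : tr (x : SL2) = 2 ∨ tr (x : SL2) = -2) :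
    ∃ ζ ∈ scalars H, ∃ u : H, tr (u : SL2) = 2 ∧ x = ζ * u := by
  rcases h with h | h
  · exact ⟨1, one_mem _, x, h, (one_mul x).symm⟩
  · have e : ((x ^ p : H) : SL2).1 = -1 := by
      rw [SubgroupClass.coe_pow]
      exact pow_prime_of_tr_neg M.odd h
    have hs : IsScal ((x ^ p : H) : SL2) := ⟨by rw [e]; simp, by rw [e]; simp, by rw [e]; simp⟩
    refine ⟨(x ^ p)⁻¹, inv_mem (show x ^ p ∈ scalars H from hs), x ^ p * x, ?_, by group⟩
    show tr (((x ^ p : H) : SL2) * (x : SL2)) = 2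
    rw [tr_scal_mul hs, h, e]
    simp

theorem scal_mul_inj {ζ ζ' u u' : H} (hζ : ζ ∈ scalars H) (hζ' : ζ' ∈ scalars H)
    (hu : tr (u : SL2) = 2) (hu' : tr (u' : SL2) = 2) (e : ζ * u = ζ' * u') :
    ζ = ζ' ∧ u = u' := by
  have h1 : u = ζ⁻¹ * ζ' * u' := by rw [mul_assoc, ← e, inv_mul_cancel_left]
  have hs : IsScal ((ζ⁻¹ * ζ' : H) : SL2) := mul_mem (inv_mem hζ) hζ'
  have h2 : ((ζ⁻¹ * ζ' : H) : SL2) = 1 := by
    refine eq_one_of_scal_tr M.odd hs ?_
    have : tr (u : SL2) = tr (((ζ⁻¹ * ζ' : H) : SL2) * (u' : SL2)) := congrArg (fun a : H => tr (a : SL2)) h1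
    rw [tr_scal_mul hs, hu, hu'] at this
    have h00 : ((ζ⁻¹ * ζ' : H) : SL2).1 0 0 = 1 := by
      have h2 := two_ne_zero' (F := F) M.odd
      exact mul_right_cancel₀ h2 (by rw [one_mul]; exact this.symm)
    unfold tr
    rw [← hs.2.2, h00]
    norm_num
  have h3 : ζ⁻¹ * ζ' = 1 := Subtype.ext h2
  exact ⟨inv_mul_eq_one.mp h3, by rw [h1, h3, one_mul]⟩

theorem exists_mem_sylow {u : H} (hu : tr (u : SL2) = 2) :
    ∃ P : Sylow p H, u ∈ (P : Subgroup H) := by
  have hz : IsPGroup p (Subgroup.zpowers u) := by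
    have h1 : u ^ p = 1 := Subtype.ext (by
      rw [SubgroupClass.coe_pow]; exact pow_prime_of_tr hu)
    intro ⟨y, hy⟩
    obtain ⟨i, rfl⟩ := Subgroup.mem_zpowers_iff.mp hy
    refine ⟨1, Subtype.ext ?_⟩
    show (u ^ i) ^ p ^ 1 = 1
    rw [pow_one, ← zpow_natCast, ← zpow_mul, mul_comm, zpow_mul, zpow_natCast, h1, _root_.one_zpow]
  obtain ⟨P, hP⟩ := hz.exists_le_sylow
  exact ⟨P, hP (Subgroup.mem_zpowers u)⟩

end Multi

end Cfsg.Lib.SLTwoSub
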